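import Cfsg.Agent.H80.TTPolar.Phase
import Cfsg.Agent.Unitary.CharTwo
import Cfsg.Agent.Unitary.Simple
import Cfsg.Agent.Unitary.Center

/-!
Lines of five points: the members are the isotropic points of a Hermitian space and the group is
the projective special unitary group.
-/

set_option autoImplicit false
set_option linter.unusedSectionVars false

namespace Cfsg.Agent.H80.TTPolar

open Cfsg
open H76.LocallyS3 (nb cj cj_cj cj_injective commute_cj_iff)
open H80.TTQuad (Cls B OnLine T far cjOrb cj_one cj_inv_cj cj_cj_inv cj_eq_of_commute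
  commute_of_cj_eq nb_symm cj_mul_self mem_T_of_commute far_symm ne_of_not_commute)
open Cfsg.Agent.Unitary (ap ap_def ap_one ap_mul ap_add ap_smul ap_zero ap_tv ap_ext ap_injective
  ap_inv_ap herm_ap herm_add_left herm_add_right herm_zero_left herm_zero_right herm_swap
  herm_self_add herm_smul_left herm_smul_right herm_self_smul herm_eq_zero_symm tv mat mat_tv
  unitaryTransvection_mulVec)

universe u

/-- A vector from a hyperbolic pair and a rest. -/
def hv {m : ℕ} (a b : Fq) (v : Fin m → Fq) : Fin (m + 2) → Fq :=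
  Fin.cons (a + om * b) (Fin.cons (a + om * om * b) v)

theorem herm_hv {m : ℕ} (a b a' b' : Fq) (v v' : Fin m → Fq) :
    hermForm (m + 2) Fq 2 (hv a b v) (hv a' b' v') =
      a * b' ^ 2 + b * a' ^ 2 + hermForm m Fq 2 v v' := by
  simp only [hermForm, Fin.sum_univ_succ, hv, Fin.cons_zero, Fin.cons_succ]
  have key : ∀ a b a' b' : Fq, (a + om * b) * (a' + om * b') ^ 2 +
      (a + om * om * b) * (a' + om * om * b') ^ 2 = a * b' ^ 2 + b * a' ^ 2 := by decide +kernel
  rw [← add_assoc, key]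

theorem exists_hv {m : ℕ} (z : Fin (m + 2) → Fq) : ∃ a b v, z = hv a b v := by
  refine ⟨z 0 + om * (z 0 + z 1), z 0 + z 1, fun i => z i.succ.succ, funext fun i => ?_⟩
  refine Fin.cases ?_ (fun i => Fin.cases ?_ (fun i => ?_) i) i
  · simp only [hv, Fin.cons_zero]
    exact (show ∀ p q : Fq, p = p + om * (p + q) + om * (p + q) by decide) _ _
  · simp only [hv, Fin.cons_zero, Fin.cons_succ, Fin.succ_zero_eq_one]
    exact (show ∀ p q : Fq, q = p + om * (p + q) + om * om * (p + q) by decide) _ _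
  · simp only [hv, Fin.cons_succ]

theorem smul_hv {m : ℕ} (k a b : Fq) (v : Fin m → Fq) :
    k • hv a b v = hv (k * a) (k * b) (k • v) := by
  funext i
  refine Fin.cases ?_ (fun i => Fin.cases ?_ (fun i => ?_) i) i <;>
    simp only [hv, Pi.smul_apply, smul_eq_mul, Fin.cons_zero, Fin.cons_succ] <;> ring

theorem hv_ne_zero {m : ℕ} {a b : Fq} {v : Fin m → Fq} (h : a ≠ 0 ∨ b ≠ 0 ∨ v ≠ 0) :
    hv a b v ≠ 0 := by
  intro h0
  have key : ∀ a b : Fq, a + om * b = 0 → a + om * om * b = 0 → a = 0 ∧ b = 0 := by decide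
  obtain ⟨ha, hb⟩ := key a b (by simpa [hv] using congrFun h0 0)
    (by simpa [hv] using congrFun h0 (Fin.succ 0))
  rcases h with h | h | h
  exacts [h ha, h hb, h (funext fun i => by simpa [hv] using congrFun h0 i.succ.succ)]

variable {G : Type u} [Group G] {D : Set G}

/-- The data of the coordinates of the members. -/
structure Embed (D : Set G) {n : ℕ} (ρ : G → Fin n → Fq) : Prop where
  ne : ∀ p ∈ D, ρ p ≠ 0
  iso : ∀ p ∈ D, hermForm n Fq 2 (ρ p) (ρ p) = 0
  commute : ∀ p ∈ D, ∀ q ∈ D, hermForm n Fq 2 (ρ p) (ρ q) = 0 ↔ Commute p q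
  surj : ∀ z, z ≠ 0 → hermForm n Fq 2 z z = 0 → ∃ p ∈ D, ∃ k : Fq, k ≠ 0 ∧ z = k • ρ p

namespace Five

variable [Finite G] (P : Five D)
include P

theorem exists_embed : ∃ (n : ℕ) (ρ : G → Fin n → Fq), 4 ≤ n ∧ Embed D ρ := by
  classical
  obtain ⟨x, hx⟩ := P.toPolar.toCls.nonempty
  obtain ⟨f, hfD, hxf⟩ := P.exists_noncommute hx
  have hf : f ∈ far D x := ⟨hfD, hxf⟩
  obtain ⟨e, he, hlin⟩ := P.exists_linear_chart hx hf
  obtain ⟨m, w, Fr⟩ := P.exists_frame hx hf he hlin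
  obtain ⟨c, cmul, cx, ctr, ccom⟩ := P.exists_phase hx hf Fr
  let near : G → Fin (m + 2) → Fq := fun y =>
    if h : y ∈ nb D x then
      hv (e (P.exists_T hx hf h).choose y ^ 2) 0
        (w (tw D x e (P.exists_T hx hf h).choose 1))
    else 0
  let fr : G → Fin (m + 2) → Fq := fun g =>
    if h : g ∈ far D x then
      hv (c (P.transitive hx hf h).choose) 1 (w (P.transitive hx hf h).choose)
    else 0
  let ρ : G → Fin (m + 2) → Fq := fun p =>
    if p = x then hv 1 0 0 else if p ∈ nb D x then near p else fr p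
  have ρx : ρ x = hv 1 0 0 := if_pos rfl
  have ρnear : ∀ {t y}, t ∈ T D x f → y ∈ Ln D x t → y ≠ x →
      ρ y = hv (e t y ^ 2) 0 (w (tw D x e t 1)) := by
    intro t y ht hy hyx
    have hyn := P.mem_nb hx ht.1 hy hyx
    show ite _ _ _ = _
    rw [if_neg hyx, if_pos hyn]
    show dite _ _ _ = _
    rw [dif_pos hyn]
    obtain ⟨h1, h2, h3⟩ := (P.exists_T hx hf hyn).choose_spec
    rw [P.T_unique hx hf hyn h1 ht h3 (P.Ln_back hx ht.1 hy hyx)]
  have ρfar : ∀ {u}, u ∈ Tw D x → ρ (cj u f) = hv (c u) 1 (w u) := by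
    intro u hu
    have hg := P.cj_far hx hf hu hf
    have hne : cj u f ≠ x := fun h => hg.2 (h ▸ Commute.refl x)
    show ite _ _ _ = _
    rw [if_neg hne, if_neg fun h => hg.2 h.2.2]
    show dite _ _ _ = _
    rw [dif_pos hg]
    obtain ⟨h1, h2⟩ := (P.transitive hx hf hg).choose_spec
    rw [P.eq_of_cj_eq hx hf h1 hu h2]
  have hsplit : ∀ p ∈ D, p = x ∨ (∃ t ∈ T D x f, p ∈ Ln D x t ∧ p ≠ x) ∨
      ∃ u ∈ Tw D x, cj u f = p := by
    intro p hp
    by_cases hpx : p = x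
    · exact Or.inl hpx
    by_cases hc : Commute x p
    · obtain ⟨t, ht, h, -⟩ := P.exists_T hx hf ⟨hp, hpx, hc⟩
      exact Or.inr (Or.inl ⟨t, ht, h, hpx⟩)
    · exact Or.inr (Or.inr (P.transitive hx hf ⟨hp, hc⟩))
  have hxnear : ∀ {t y}, t ∈ T D x f → y ∈ Ln D x t → y ≠ x →
      (hermForm (m + 2) Fq 2 (ρ x) (ρ y) = 0 ↔ Commute x y) := fun {t y} ht hy hyx => by
    rw [ρx, ρnear ht hy hyx, herm_hv, herm_zero_left]
    exact iff_of_true (by simp) (P.mem_nb hx ht.1 hy hyx).2.2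
  have hxfar : ∀ {u}, u ∈ Tw D x →
      (hermForm (m + 2) Fq 2 (ρ x) (ρ (cj u f)) = 0 ↔ Commute x (cj u f)) := fun {u} hu => by
    rw [ρx, ρfar hu, herm_hv, herm_zero_left]
    exact iff_of_false (by simp) (P.cj_far hx hf hu hf).2
  have hnearfar : ∀ {t y u}, t ∈ T D x f → y ∈ Ln D x t → y ≠ x → u ∈ Tw D x →
      (hermForm (m + 2) Fq 2 (ρ y) (ρ (cj u f)) = 0 ↔ Commute y (cj u f)) := by
    intro t y u ht hy hyx hu
    have hyn := P.mem_nb hx ht.1 hy hyx
    obtain ⟨hy1, hy2⟩ := P.cj_Tw_line hx (inv_mem hu) hyn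
    rw [P.Ln_eq hx ht.1 hy hyx] at hy1
    have hcom : Commute y (cj u f) ↔ e t y = coo D x f e u t := by
      rw [← commute_cj_iff (g := u⁻¹), cj_inv_cj]
      have hlab := P.cj_label hx hf he (inv_mem hu) ht hy hyx
      rw [← coo_apply (e := e) (u := u⁻¹) ht, P.coo_inv hx hf he hu] at hlab
      constructor
      · intro h
        have hn := P.mem_nb hx ht.1 hy1 hy2
        have heq := P.T_unique hx hf hn (mem_T_of_commute hf.2 hy1.1 hn.2.2 h.symm) ht
          (P.right_mem hn) (P.Ln_back hx ht.1 hy1 hy2)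
        rw [heq, (he t ht).1] at hlab
        exact fq_eq_of_add _ _ hlab.symm
      · intro h
        rw [h, fq_add_self, ← (he t ht).1] at hlab
        rw [(he t ht).2 ⟨hy1, hy2⟩ ⟨P.right_mem ht.1, ht.1.2.1⟩ hlab]
        exact ht.2.2.2.symm
    rw [hcom, ρnear ht hy hyx, ρfar hu, herm_hv, ← herm_swap fq_card (w u),
      Fr.proj u hu t ht 1]
    exact (show ∀ a p : Fq,
      a ^ 2 * 1 ^ 2 + 0 * c u ^ 2 + (p * 1 ^ 2) ^ 2 = 0 ↔ a = p by
        have : ∀ a p q : Fq, a ^ 2 * 1 ^ 2 + 0 * q ^ 2 + (p * 1 ^ 2) ^ 2 = 0 ↔ a = p := by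
          decide +kernel
        exact fun a p => this a p _) _ _
  have hnearnear : ∀ {t y t' y'}, t ∈ T D x f → y ∈ Ln D x t → y ≠ x → t' ∈ T D x f →
      y' ∈ Ln D x t' → y' ≠ x →
      (hermForm (m + 2) Fq 2 (ρ y) (ρ y') = 0 ↔ Commute y y') := by
    intro t y t' y' ht hy hyx ht' hy' hyx'
    rw [ρnear ht hy hyx, ρnear ht' hy' hyx', herm_hv, mul_comm (e t y ^ 2),
      zero_pow two_ne_zero, zero_mul, zero_mul, zero_add, zero_add,
      P.herm_tw hx hf Fr ht ht' one_ne_zero one_ne_zero,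
      P.commute_iff_of_Ln hx ht'.1 hy' hyx' (P.mem_nb hx ht.1 hy hyx)]
    refine ⟨fun h => ?_, fun h => ?_⟩
    · exact ((P.commute_iff_of_Ln hx ht.1 hy hyx ht'.1).2 h.symm).symm
    · exact ((P.commute_iff_of_Ln hx ht.1 hy hyx ht'.1).1 h.symm).symm
  have hfarfar : ∀ {u v}, u ∈ Tw D x → v ∈ Tw D x →
      (hermForm (m + 2) Fq 2 (ρ (cj u f)) (ρ (cj v f)) = 0 ↔ Commute (cj u f) (cj v f)) := by
    intro u v hu hv
    have hmem := mul_mem (inv_mem hv) hu
    have h1 := cmul v hv _ hmem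
    rw [mul_inv_cancel_left, Fr.mul _ (inv_mem hv) _ hu, P.w_inv hx hf Fr hv, herm_add_left,
      ← ctr v hv] at h1
    rw [Commute.symm_iff (a := cj u f), P.commute_far_iff hx hf, ccom _ hmem, ρfar hu, ρfar hv,
      herm_hv]
    have key : ∀ p q r h : Fq, p = q + r + (q + q ^ 2 + h) →
        (p * 1 ^ 2 + 1 * q ^ 2 + h = 0 ↔ r = 0) := by decide +kernel
    exact key _ _ _ _ h1
  refine ⟨m + 2, ρ, by have := Fr.two; omega, ?_, ?_, ?_, ?_⟩
  · intro p hp
    rcases hsplit p hp with rfl | ⟨t, ht, hy, hyx⟩ | ⟨u, hu, rfl⟩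
    · rw [ρx]; exact hv_ne_zero (Or.inl one_ne_zero)
    · rw [ρnear ht hy hyx]
      refine hv_ne_zero (Or.inr (Or.inr fun h => ?_))
      have h2 := (P.lift_w hx hf Fr (P.isLift_tw hx hf Fr ht one_ne_zero)).1
      rw [Fr.mul _ (P.tw_mem hx hf he ht 1) _ (P.mem_x x), Fr.map_x, h, add_zero] at h2
      exact h2 rfl
    · rw [ρfar hu]; exact hv_ne_zero (Or.inr (Or.inl one_ne_zero))
  · intro p hp
    rcases hsplit p hp with rfl | ⟨t, ht, hy, hyx⟩ | ⟨u, hu, rfl⟩
    · rw [ρx, herm_hv, herm_zero_left]; simp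
    · exact (hnearnear ht hy hyx ht hy hyx).2 (Commute.refl p)
    · exact (hfarfar hu hu).2 (Commute.refl _)
  · intro p hp q hq
    rcases hsplit p hp with rfl | ⟨t, ht, hy, hyx⟩ | ⟨u, hu, rfl⟩ <;>
      rcases hsplit q hq with rfl | ⟨t', ht', hy', hyx'⟩ | ⟨v, hv, rfl⟩
    · rw [ρx, herm_hv, herm_zero_left]; exact iff_of_true (by simp) (Commute.refl q)
    · exact hxnear ht' hy' hyx'
    · exact hxfar hv
    · rw [herm_eq_zero_symm fq_card, hxnear ht hy hyx]; exact Commute.symm_iff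
    · exact hnearnear ht hy hyx ht' hy' hyx'
    · exact hnearfar ht hy hyx hv
    · rw [herm_eq_zero_symm fq_card, hxfar hu]; exact Commute.symm_iff
    · rw [herm_eq_zero_symm fq_card, hnearfar ht' hy' hyx' hu]; exact Commute.symm_iff
    · exact hfarfar hu hv
  · intro z hz hiso
    obtain ⟨a, b, v, rfl⟩ := exists_hv z
    by_cases hb : b = 0
    · subst hb
      by_cases hv0 : v = 0
      · subst hv0
        refine ⟨x, hx, a, fun ha => hz ?_, ?_⟩
        · subst ha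
          funext i
          refine Fin.cases ?_ (fun i => Fin.cases ?_ (fun i => ?_) i) i <;> simp [hv]
        · rw [ρx, smul_hv, mul_one, mul_zero, smul_zero]
      rw [herm_hv] at hiso
      simp only [zero_pow two_ne_zero, mul_zero, zero_mul, zero_add] at hiso
      obtain ⟨l, hl, rfl⟩ := P.exists_lift hx hf Fr hv0 hiso
      obtain ⟨t, ht, a', ha', -, hw⟩ := P.lift_form hx hf Fr hl
      obtain ⟨h1, h2, h3⟩ := P.point_spec hx hf he ht ((a * a' ^ 2) ^ 2)
      refine ⟨_, h1.1, a', ha', ?_⟩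
      rw [ρnear ht h1 h2, h3, hw, Fr.line t ht a', smul_hv, mul_zero]
      congr 1
      exact (show ∀ a k : Fq, k ≠ 0 → a = k * ((a * k ^ 2) ^ 2) ^ 2 by decide) a a' ha'
    · obtain ⟨u, hu, hue⟩ := Fr.surj (b⁻¹ • v)
      have hiso' : hermForm (m + 2) Fq 2 (b⁻¹ • hv a b v) (b⁻¹ • hv a b v) = 0 := by
        rw [herm_self_smul, hiso, mul_zero]
      rw [smul_hv, inv_mul_cancel₀ hb, herm_hv, ← hue, ← ctr u hu] at hiso'
      have key : ∀ p q : Fq, p * 1 ^ 2 + 1 * p ^ 2 + (q + q ^ 2) = 0 → q = p ∨ q + 1 = p := by decide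
      obtain ⟨u', hu', hwu, hcu⟩ : ∃ u' ∈ Tw D x, w u' = b⁻¹ • v ∧ c u' = b⁻¹ * a := by
        rcases key _ _ hiso' with h | h
        · exact ⟨u, hu, hue, h⟩
        · refine ⟨u * x, mul_mem hu (P.mem_x x), ?_, ?_⟩
          · rw [Fr.mul _ hu _ (P.mem_x x), Fr.map_x, add_zero, hue]
          · rw [cmul _ hu _ (P.mem_x x), Fr.map_x, herm_zero_left, add_zero, cx, h]
      refine ⟨_, P.mem_cj u' hfD, b, hb, ?_⟩
      rw [ρfar hu', hwu, hcu, smul_hv, mul_inv_cancel_left₀ hb, mul_one, smul_inv_smul₀ hb]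

/-- Lines of five points give a unitary group. -/
theorem exists_psu_iso :
    ∃ (F : Type) (_ : Field F) (_ : Fintype F) (n : ℕ),
      Fintype.card F = 4 ∧ Nonempty (G ≃* Cfsg.PSU n F 2) := by
  classical
  obtain ⟨n, ρ, hn, E⟩ := P.exists_embed
  refine ⟨Fq, inferInstance, inferInstance, n, H59.HeSp4.card_F4, ?_⟩
  let hF : Fintype.card Fq = 2 ^ 2 := fq_card
  have hcube : ∀ k : Fq, k ≠ 0 → k * k ^ 2 = 1 := by decide
  have hinjP : ∀ {p q} {k : Fq}, p ∈ D → q ∈ D → k ≠ 0 → ρ q = k • ρ p → p = q := by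
    intro p q k hp hq hk h
    refine P.eq_of_commute_subset hp hq fun r hr hpr => ?_
    rw [← E.commute q hq r hr, h, herm_smul_left, (E.commute p hp r hr).2 hpr, mul_zero]
  let τ : G → SU n Fq 2 := fun d =>
    if h : d ∈ D then tv hF (E.iso d h) (Unitary.one_skew_two hF) else 1
  have hτ : ∀ {d} (h : d ∈ D), τ d = tv hF (E.iso d h) (Unitary.one_skew_two hF) :=
    fun h => dif_pos h
  have hgen : ∀ d ∈ D, ∀ p ∈ D, ∃ k : Fq, k ≠ 0 ∧ ap (τ d) (ρ p) = k • ρ (cj d p) := by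
    intro d hd p hp
    rw [hτ hd, ap_tv]
    by_cases hc : Commute d p
    · refine ⟨1, one_ne_zero, ?_⟩
      rw [(E.commute p hp d hd).2 hc.symm, mul_zero, zero_smul, add_zero, one_smul,
        cj_eq_of_commute hc]
    set z := ρ p + (1 * hermForm n Fq 2 (ρ p) (ρ d)) • ρ d with hzdef
    have hpd : hermForm n Fq 2 (ρ p) (ρ d) ≠ 0 := fun h => hc ((E.commute p hp d hd).1 h).symm
    have hzd : hermForm n Fq 2 z (ρ d) ≠ 0 := by
      rwa [hzdef, herm_add_left, herm_smul_left, E.iso d hd, mul_zero, add_zero]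
    have hzp : hermForm n Fq 2 z (ρ p) ≠ 0 := by
      rw [hzdef, herm_add_left, herm_smul_left, E.iso p hp, zero_add, one_mul,
        ← herm_swap hF (ρ p) (ρ d), hcube _ hpd]
      exact one_ne_zero
    have hz0 : z ≠ 0 := fun h => hzd (by rw [h, herm_zero_left])
    have hziso : hermForm n Fq 2 z z = 0 := by
      have h := herm_ap (tv hF (E.iso d hd) (Unitary.one_skew_two hF)) (ρ p) (ρ p)
      rwa [ap_tv, E.iso p hp] at h
    obtain ⟨q, hq, k, hk, hzq⟩ := E.surj z hz0 hziso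
    refine ⟨k, hk, ?_⟩
    have hT : ∀ r ∈ T D d p, Commute q r := fun r hr => by
      have h0 : hermForm n Fq 2 z (ρ r) = 0 := by
        rw [hzdef, herm_add_left, herm_smul_left, (E.commute p hp r hr.1.1).2 hr.2.2.2,
          (E.commute d hd r hr.1.1).2 hr.1.2.2, mul_zero, add_zero]
      rw [hzq, herm_smul_left] at h0
      exact (E.commute q hq r hr.1.1).1 ((mul_eq_zero.1 h0).resolve_left hk)
    rcases P.common_perp hd ⟨hp, hc⟩ hq hT with h | h | h
    · exfalso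
      rw [hzq, h, herm_smul_left, E.iso d hd, mul_zero] at hzd
      exact hzd rfl
    · exfalso
      rw [hzq, h, herm_smul_left, E.iso p hp, mul_zero] at hzp
      exact hzp rfl
    · rw [hzq, h]
  let Δ : Subgroup (G × SU n Fq 2) := Subgroup.closure {z | ∃ d ∈ D, z = (d, τ d)}
  have hact : ∀ z ∈ Δ, ∀ p ∈ D, ∃ k : Fq, k ≠ 0 ∧ ap z.2 (ρ p) = k • ρ (cj z.1 p) := by
    intro z hz
    refine Subgroup.closure_induction ?_ ?_ ?_ ?_ hz
    · rintro _ ⟨d, hd, rfl⟩; exact hgen d hd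
    · exact fun p _ => ⟨1, one_ne_zero, by rw [Prod.snd_one, ap_one, Prod.fst_one, cj_one, one_smul]⟩
    · intro a b _ _ iha ihb p hp
      obtain ⟨k, hk, h⟩ := ihb p hp
      obtain ⟨k', hk', h'⟩ := iha _ (P.mem_cj b.1 hp)
      exact ⟨k * k', mul_ne_zero hk hk', by
        rw [Prod.snd_mul, ap_mul, h, ap_smul, h', smul_smul, Prod.fst_mul, ← cj_cj]⟩
    · intro a _ ih p hp
      obtain ⟨k, hk, h⟩ := ih _ (P.mem_cj a.1⁻¹ hp)
      rw [cj_cj_inv] at h
      refine ⟨k⁻¹, inv_ne_zero hk, ?_⟩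
      have h2 := congrArg (ap a.2⁻¹) h
      rw [ap_inv_ap, ap_smul] at h2
      rw [Prod.snd_inv, Prod.fst_inv, h2, inv_smul_smul₀ hk]
  let π₁ := (MonoidHom.fst G (SU n Fq 2)).comp Δ.subtype
  let π₂ := (MonoidHom.snd G (SU n Fq 2)).comp Δ.subtype
  have hfix : ∀ z : Δ, (∀ p ∈ D, ∃ l : Fq, ap (z : G × SU n Fq 2).2 (ρ p) = l • ρ p) →
      (z : G × SU n Fq 2).1 = 1 := fun z h => P.eq_one_of_fix fun p hp => by
    obtain ⟨k, hk, hzp⟩ := hact _ z.2 p hp
    obtain ⟨l, hl⟩ := h p hp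
    rw [hl] at hzp
    refine (hinjP hp (P.mem_cj _ hp) (k := k⁻¹ * l) ?_ ?_).symm
    · refine mul_ne_zero (inv_ne_zero hk) fun hl0 => ?_
      rw [hl0, zero_smul, eq_comm, smul_eq_zero] at hzp
      exact hzp.elim hk (E.ne _ (P.mem_cj _ hp))
    · rw [mul_smul, hzp, inv_smul_smul₀ hk]
  have s1 : Function.Surjective π₁ := by
    refine MonoidHom.range_eq_top.1 ?_
    rw [eq_top_iff, ← P.cl.2.2, Subgroup.closure_le]
    exact fun d hd => ⟨⟨(d, τ d), Subgroup.subset_closure ⟨d, hd, rfl⟩⟩, rfl⟩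
  have b2 : Function.Bijective π₂ := by
    refine ⟨(injective_iff_map_eq_one π₂).2 fun z hz => Subtype.ext (Prod.ext (hfix z fun p _ =>
      ⟨1, by rw [show (z : G × SU n Fq 2).2 = 1 from hz, ap_one, one_smul]⟩) hz),
      MonoidHom.range_eq_top.1 ?_⟩
    rw [eq_top_iff, ← Unitary.tgroup_eq_top hF (Or.inl hn), Unitary.tgroup, Subgroup.closure_le]
    rintro A ⟨v, c, hv, hA⟩
    by_cases hvc : v = 0 ∨ c = 0
    · have : A = 1 := by
        refine ap_ext fun y => ?_
        rw [ap_def, hA, unitaryTransvection_mulVec, ap_one]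
        rcases hvc with h | h <;> simp [h]
      rw [this]; exact one_mem _
    push Not at hvc
    obtain ⟨p, hp, k, hk, hvp⟩ := E.surj v hvc.1 hv
    obtain ⟨z, -, -, hz⟩ := Unitary.exists_partner hF (Unitary.nondeg_top hF) Submodule.mem_top hvc.1 hv
    have hc : c + c ^ 2 = 0 := by
      have h := herm_ap A z z
      have hvz : hermForm n Fq 2 v z = 1 := by rw [← herm_swap hF z v, hz, one_pow]
      simp only [ap_def, hA, unitaryTransvection_mulVec, herm_add_left, herm_add_right hF,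
        herm_smul_left, herm_smul_right, hv, hz, hvz, mul_one, mul_zero, add_zero] at h
      linear_combination h
    obtain rfl := Unitary.eq_one_of_skew_two hF hc hvc.2
    subst hvp
    refine ⟨⟨(p, τ p), Subgroup.subset_closure ⟨p, hp, rfl⟩⟩, ?_⟩
    show τ p = A
    rw [hτ hp, ← Unitary.tv_smul_two hF (E.iso p hp) hv (hcube k hk)]
    refine ap_ext fun y => ?_
    rw [ap_def, ap_def, mat_tv, hA]
  let φ : SU n Fq 2 →* G := π₁.comp (MulEquiv.ofBijective π₂ b2).symm.toMonoidHom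
  have hφs : Function.Surjective φ := s1.comp (MulEquiv.ofBijective π₂ b2).symm.surjective
  have hpre : ∀ A, ∃ z : Δ, (z : G × SU n Fq 2).2 = A ∧ φ A = (z : G × SU n Fq 2).1 := fun A =>
    ⟨(MulEquiv.ofBijective π₂ b2).symm A, (MulEquiv.ofBijective π₂ b2).apply_symm_apply A, rfl⟩
  have hker : φ.ker = Subgroup.center (SU n Fq 2) := by
    ext A
    obtain ⟨z, rfl, hz⟩ := hpre A
    rw [MonoidHom.mem_ker, hz]
    constructor
    · intro h
      obtain ⟨l, hl⟩ := Unitary.eq_smul_of_fix_lines hF (by omega) (z : G × SU n Fq 2).2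
        fun v hv hv0 => by
          obtain ⟨p, hp, k, -, rfl⟩ := E.surj v hv0 hv
          obtain ⟨k', -, h'⟩ := hact _ z.2 p hp
          rw [h, cj_one] at h'
          exact ⟨k', by rw [ap_smul, h', smul_comm]⟩
      exact Unitary.smul_mem_center hl
    · intro hc
      obtain ⟨l, hl⟩ := Unitary.eq_smul_of_mem_center hF (by omega) hc
      exact hfix z fun p _ => ⟨l, hl _⟩
  exact ⟨(QuotientGroup.quotientKerEquivOfSurjective φ hφs).symm.trans
    (QuotientGroup.quotientMulEquivOfEq hker)⟩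

end Five

end Cfsg.Agent.H80.TTPolar
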