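import Cfsg.Agent.H80.TTPolar.Lines
import Cfsg.Agent.Symplectic.Std

/-!
Lines of three points: the functions recording noncommutation form a symplectic space over the
field with two elements, and the group is its symplectic group.
-/

set_option autoImplicit false
set_option linter.unusedSectionVars false

namespace Cfsg.Agent.H80.TTPolar

open Cfsg
open H76.LocallyS3 (nb cj cj_cj cj_injective commute_cj_iff)
open H80.TTQuad (Cls B OnLine T far cjOrb cj_one cj_inv_cj cj_cj_inv cj_eq_of_commute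
  commute_of_cj_eq nb_symm cj_mul_self mem_T_of_commute far_symm square)

universe u

variable {G : Type u} [Group G] {D : Set G}

open Classical in
/-- The noncommutation function of a member. -/
noncomputable def iota (D : Set G) (p : G) : G → ZMod 2 :=
  fun r => if r ∈ D ∧ ¬ Commute p r then 1 else 0

theorem iota_apply_of_commute {p r : G} (h : Commute p r) : iota D p r = 0 :=
  if_neg fun q => q.2 h

theorem iota_apply_of_not {p r : G} (hr : r ∈ D) (h : ¬ Commute p r) : iota D p r = 1 :=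
  if_pos ⟨hr, h⟩

theorem iota_comm {p r : G} (hp : p ∈ D) (hr : r ∈ D) : iota D p r = iota D r p := by
  by_cases h : Commute p r
  · rw [iota_apply_of_commute h, iota_apply_of_commute h.symm]
  · rw [iota_apply_of_not hr h, iota_apply_of_not hp fun q => h q.symm]

namespace Polar

variable [Finite G] (P : Polar D)
include P

theorem iota_inj {p q : G} (hp : p ∈ D) (hq : q ∈ D) (h : iota D p = iota D q) : p = q :=
  P.eq_of_commute_subset hp hq fun w hw hpw => by
    by_contra hqw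
    have := congrFun h w
    rw [iota_apply_of_commute hpw, iota_apply_of_not hw hqw] at this
    exact zero_ne_one this

theorem iota_ne_zero {p : G} (hp : p ∈ D) : iota D p ≠ 0 := fun h => by
  obtain ⟨f, hf, hpf⟩ := P.exists_noncommute hp
  have := congrFun h f
  rw [iota_apply_of_not hf hpf] at this
  exact one_ne_zero this

variable (h3 : ∀ p ∈ D, ∀ q ∈ nb D p, (Ln D p q).ncard = 3)
include h3

theorem line_three {p q w : G} (hp : p ∈ D) (hq : q ∈ nb D p) (hw : w ∈ Ln D p q) (hwp : w ≠ p)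
    (hwq : w ≠ q) : Ln D p q = {p, q, w} := by
  refine (Set.eq_of_subset_of_ncard_le ?_ ?_ (Set.toFinite _)).symm
  · rintro d (rfl | rfl | rfl)
    exacts [P.left_mem hp, P.right_mem hq, hw]
  · rw [h3 p hp q hq, Set.ncard_eq_three.2 ⟨p, q, w, hq.2.1.symm, hwp.symm, hwq.symm, rfl⟩]

/-- The third point of a line commutes with a member iff both or none of the others do. -/
theorem third_iff {p q w r : G} (hp : p ∈ D) (hq : q ∈ nb D p) (hw : w ∈ Ln D p q) (hwp : w ≠ p)
    (hwq : w ≠ q) (hr : r ∈ D) : Commute r w ↔ (Commute r p ↔ Commute r q) := by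
  have h2 : ∀ {a b c}, a ∈ Ln D p q → b ∈ Ln D p q → c ∈ Ln D p q → a ≠ b → Commute r a →
      Commute r b → Commute r c :=
    fun ha hb hc hab h h' => P.commute_all hp hq ha hb hab hr h h' hc
  have mp := P.left_mem (q := q) hp
  have mq := P.right_mem hq
  constructor
  · exact fun h => ⟨fun h' => h2 hw mp mq hwp h h', fun h' => h2 hw mq mp hwq h h'⟩
  · intro h
    by_cases hrp : Commute r p
    · exact h2 mp mq hw hq.2.1.symm hrp (h.1 hrp)
    obtain ⟨z, hz, hrz⟩ := P.exists_trace hp hq hr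
    rw [P.line_three h3 hp hq hw hwp hwq] at hz
    rcases hz with rfl | rfl | rfl
    exacts [absurd hrz hrp, absurd (h.2 hrz) hrp, hrz]

theorem cross {p q a pa qa : G} (hp : p ∈ D) (hq : q ∈ D) (hpq : ¬ Commute p q)
    (ha : a ∈ T D p q) (hpa : pa ∈ Ln D p a) (h1 : pa ≠ p) (h2 : pa ≠ a)
    (hqa : qa ∈ Ln D q a) (h1' : qa ≠ q) (h2' : qa ≠ a) :
    ¬ Commute pa qa ∧ cj pa qa = cj p q := by
  have hpn := P.mem_nb hp ha.1 hpa h1
  have hqn := P.mem_nb hq ha.2 hqa h1'
  have haB := P.mem_B hp ha.1 hpa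
  have haB' := P.mem_B hq ha.2 hqa
  have n1 : ¬ Commute q pa := fun h => hpq ((P.commute_all hp ha.1 (P.right_mem ha.1) hpa h2.symm
    hq ha.2.2.2 h (P.left_mem hp)).symm)
  have n2 : ¬ Commute p qa := fun h => hpq (P.commute_all hq ha.2 (P.right_mem ha.2) hqa h2'.symm
    hp ha.1.2.2 h (P.left_mem hq))
  have n3 : ¬ Commute pa qa := fun h => n2 (P.commute_all hp ha.1 (P.right_mem ha.1) hpa h2.symm
    hqa.1 haB'.2.2 h.symm (P.left_mem hp)).symm
  refine ⟨n3, ?_⟩
  have hh : cj p q ∈ D := P.mem_cj p hq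
  -- the line through `a` and the third point
  have e1 : cj pa q ∈ Ln D (cj p q) a := by
    have h := (P.onLine_cj q).2 (hpa : OnLine D p a pa)
    rw [cj_eq_of_commute ha.2.2.2, ← P.braid hp hq hpq, ← P.braid hpa.1 hq fun h => n1 h.symm] at h
    exact h
  have e2 : cj p qa ∈ Ln D (cj p q) a := by
    have h := (P.onLine_cj p).2 (hqa : OnLine D q a qa)
    rwa [cj_eq_of_commute ha.1.2.2] at h
  have hah : a ∈ nb D (cj p q) := by
    have h := P.cj_nb p ha.2
    rwa [cj_eq_of_commute ha.1.2.2] at h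
  have d1 : cj pa q ≠ cj p q := fun e => h1 (cj_injective q (by
    rw [← P.braid hpa.1 hq fun h => n1 h.symm, ← P.braid hp hq hpq, e]))
  have d2 : cj pa q ≠ a := fun e => by
    rw [P.braid hpa.1 hq fun h => n1 h.symm, ← cj_eq_of_commute ha.2.2.2] at e
    exact h2 (cj_injective q e)
  have d3 : cj p qa ≠ cj p q := fun e => h1' (cj_injective p e)
  have d4 : cj p qa ≠ a := fun e => by
    rw [← cj_eq_of_commute ha.1.2.2] at e
    exact h2' (cj_injective p e)
  have heq : cj p qa = cj pa q := by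
    rw [P.line_three h3 hh hah e1 d1 d2] at e2
    simp only [Set.mem_insert_iff, Set.mem_singleton_iff] at e2
    rcases e2 with e | e | e
    exacts [absurd e d3, absurd e d4, e]
  exact (square (P.sq hp) (P.sq hpa.1) haB.2.1.symm heq).symm

/-- One of two crossings commutes with a member not commuting with a given common neighbour. -/
theorem commute_third_of {p q r a : G} (hp : p ∈ D) (hq : q ∈ D) (hr : r ∈ D)
    (hpq : ¬ Commute p q) (hrp : ¬ Commute r p) (hrq : ¬ Commute r q) (ha : a ∈ T D p q)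
    (hra : ¬ Commute r a) : Commute r (cj p q) := by
  obtain ⟨pa, hpa, h1, h2⟩ := P.thick p hp a ha.1
  obtain ⟨qa, hqa, h1', h2'⟩ := P.thick q hq a ha.2
  obtain ⟨-, he⟩ := P.cross h3 hp hq hpq ha hpa h1 h2 hqa h1' h2'
  have c1 := (P.third_iff h3 hp ha.1 hpa h1 h2 hr).2 (by simp [hrp, hra])
  have c2 := (P.third_iff h3 hq ha.2 hqa h1' h2' hr).2 (by simp [hrq, hra])
  rw [← he]
  exact (c1.mul_right c2).mul_right c1.inv_right

/-- A member not commuting with `p, q` commutes with their third point. -/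
theorem commute_third {p q r : G} (hp : p ∈ D) (hq : q ∈ D) (hr : r ∈ D) (hpq : ¬ Commute p q)
    (hrp : ¬ Commute r p) (hrq : ¬ Commute r q) : Commute r (cj p q) := by
  by_contra hrh
  have hall : ∀ t ∈ T D p q, Commute r t := fun t ht => by_contra fun h =>
    hrh (P.commute_third_of h3 hp hq hr hpq hrp hrq ht h)
  have hfar : q ∈ far D p := ⟨hq, hpq⟩
  obtain ⟨d, hd⟩ := P.nb_nonempty hp
  obtain ⟨a, ha, -, -⟩ := P.exists_T hp hfar hd
  obtain ⟨b, hb, hab⟩ : ∃ b ∈ T D p q, ¬ Commute a b := by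
    by_contra h
    push Not at h
    exact P.T_nondeg hp hfar ha.1 h
  have hh : cj p q ∈ D := P.mem_cj p hq
  obtain ⟨n1, n2⟩ := P.not_commute_cj hp hq hpq
  have hbh : Commute b (cj p q) :=
    (ha_aux hb.1.2.2.symm hb.2.2.2.symm)
  have hah : Commute a (cj p q) :=
    (ha_aux ha.1.2.2.symm ha.2.2.2.symm)
  have hhb : cj p q ∈ nb D b := ⟨hh, fun e => n2 (e ▸ hb.1.2.2), hbh⟩
  obtain ⟨bh, hbhL, d1, d2⟩ := P.thick b hb.1.1 _ hhb
  obtain ⟨pa, hpa, h1, h2⟩ := P.thick p hp a ha.1
  obtain ⟨qa, hqa, h1', h2'⟩ := P.thick q hq a ha.2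
  obtain ⟨n3, he⟩ := P.cross h3 hp hq hpq ha hpa h1 h2 hqa h1' h2'
  have third := fun {w : G} (hw : w ∈ D) => P.third_iff h3 hb.1.1 hhb hbhL d1 d2 hw
  have b1 : ¬ Commute a bh := fun h => by
    have := (third ha.1.1).1 h
    exact hab (this.2 hah)
  have b2 : ¬ Commute p bh := fun h => n2 (((third hp).1 h).1 hb.1.2.2)
  have b3 : ¬ Commute q bh := fun h => n1 (((third hq).1 h).1 hb.2.2.2)
  have b4 : ¬ Commute r bh := fun h => hrh (((third hr).1 h).1 (hall b hb))
  have hbhD : bh ∈ D := hbhL.1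
  have c1 : Commute bh pa :=
    (P.third_iff h3 hp ha.1 hpa h1 h2 hbhD).2 ⟨fun h => absurd h.symm b2, fun h => absurd h.symm b1⟩
  have c2 : Commute bh qa :=
    (P.third_iff h3 hq ha.2 hqa h1' h2' hbhD).2 ⟨fun h => absurd h.symm b3, fun h => absurd h.symm b1⟩
  have r1 : ¬ Commute r pa := fun h => hrp (((P.third_iff h3 hp ha.1 hpa h1 h2 hr).1 h).2 (hall a ha))
  have r2 : ¬ Commute r qa :=
    fun h => hrq (((P.third_iff h3 hq ha.2 hqa h1' h2' hr).1 h).2 (hall a ha))
  exact hrh (he ▸ P.commute_third_of h3 hpa.1 hqa.1 hr n3 r1 r2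
    (mem_T_of_commute n3 hbhD c1.symm c2.symm) b4)
where
  ha_aux {g p q : G} (h : Commute g p) (h' : Commute g q) : Commute g (cj p q) :=
    (h.mul_right h').mul_right h.inv_right

theorem iota_add {p q : G} (hp : p ∈ D) (hq : q ∈ D) (hne : p ≠ q) :
    ∃ w ∈ D, iota D p + iota D q = iota D w ∧ (¬ Commute p q → w = cj p q) := by
  have heval : ∀ {w : G}, w ∈ D → (∀ r ∈ D, Commute r w ↔ (Commute r p ↔ Commute r q)) →
      iota D p + iota D q = iota D w := by
    intro w hw h
    funext r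
    show iota D p r + iota D q r = iota D w r
    by_cases hr : r ∈ D
    · rw [iota_comm hp hr, iota_comm hq hr, iota_comm hw hr]
      by_cases hrp : Commute r p <;> by_cases hrq : Commute r q
      · rw [iota_apply_of_commute hrp, iota_apply_of_commute hrq,
          iota_apply_of_commute ((h r hr).2 (iff_of_true hrp hrq)), add_zero]
      · rw [iota_apply_of_commute hrp, iota_apply_of_not hq hrq,
          iota_apply_of_not hw fun q => hrq (((h r hr).1 q).1 hrp), zero_add]
      · rw [iota_apply_of_not hp hrp, iota_apply_of_commute hrq,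
          iota_apply_of_not hw fun q => hrp (((h r hr).1 q).2 hrq), add_zero]
      · rw [iota_apply_of_not hp hrp, iota_apply_of_not hq hrq,
          iota_apply_of_commute ((h r hr).2 (iff_of_false hrp hrq))]
        decide
    · simp [iota, hr]
  by_cases hc : Commute p q
  · have hqn : q ∈ nb D p := ⟨hq, hne.symm, hc⟩
    obtain ⟨w, hw, hwp, hwq⟩ := P.thick p hp q hqn
    exact ⟨w, hw.1, heval hw.1 fun r hr => P.third_iff h3 hp hqn hw hwp hwq hr,
      fun h => absurd hc h⟩
  · refine ⟨cj p q, P.mem_cj p hq, heval (P.mem_cj p hq) fun r hr => ?_, fun _ => rfl⟩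
    by_cases hrp : Commute r p
    · constructor
      · intro h
        refine ⟨fun _ => ?_, fun _ => hrp⟩
        have h2 := (hrp.mul_right h).mul_right hrp.inv_right
        change Commute r (cj p (cj p q)) at h2
        rwa [P.cj_invol hp] at h2
      · intro h
        exact (hrp.mul_right (h.1 hrp)).mul_right hrp.inv_right
    · by_cases hrq : Commute r q
      · refine ⟨fun h => absurd ?_ hrp, fun h => absurd (h.2 hrq) hrp⟩
        rw [P.braid hp hq hc] at h
        have h2 := (hrq.mul_right h).mul_right hrq.inv_right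
        change Commute r (cj q (cj q p)) at h2
        rwa [P.cj_invol hq] at h2
      · exact ⟨fun _ => by simp [hrp, hrq], fun _ => P.commute_third h3 hp hq hr hc hrp hrq⟩

/-- Lines of three points give a symplectic group, the members going to transvections. -/
theorem exists_sp_class : ∃ (n : ℕ) (e : G ≃* Matrix.symplecticGroup (Fin n) (ZMod 2)),
    ∀ d ∈ D, ∃ w : Fin n ⊕ Fin n → ZMod 2, w ≠ 0 ∧ e d = Symplectic.T w 1 := by
  classical
  have h2 : ∀ φ : G → ZMod 2, φ + φ = 0 := fun φ => funext fun r => CharTwo.add_self_eq_zero _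
  let A : AddSubgroup (G → ZMod 2) :=
    { carrier := {φ | φ = 0 ∨ ∃ p ∈ D, φ = iota D p}
      zero_mem' := Or.inl rfl
      add_mem' := by
        rintro φ ψ (rfl | ⟨p, hp, rfl⟩) (rfl | ⟨q, hq, rfl⟩)
        · exact Or.inl (add_zero _)
        · exact Or.inr ⟨q, hq, zero_add _⟩
        · exact Or.inr ⟨p, hp, add_zero _⟩
        · by_cases he : p = q
          · subst he; exact Or.inl (h2 _)
          · obtain ⟨w, hw, e, -⟩ := P.iota_add h3 hp hq he
            exact Or.inr ⟨w, hw, e⟩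
      neg_mem' := fun {φ} h => by
        show -φ = 0 ∨ _
        rwa [neg_eq_of_add_eq_zero_left (h2 φ)] }
  let V : Submodule (ZMod 2) (G → ZMod 2) := AddSubgroup.toZModSubmodule 2 A
  have hV : ∀ {φ : G → ZMod 2}, φ ∈ V ↔ (φ = 0 ∨ ∃ p ∈ D, φ = iota D p) := fun {φ} => Iff.rfl
  let io : ∀ p ∈ D, V := fun p hp => ⟨iota D p, hV.2 (Or.inr ⟨p, hp, rfl⟩)⟩
  have hVcases : ∀ φ : V, φ = 0 ∨ ∃ p, ∃ hp : p ∈ D, φ = io p hp := fun φ => by
    rcases hV.1 φ.2 with h | ⟨p, hp, h⟩
    · exact Or.inl (Subtype.ext h)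
    · exact Or.inr ⟨p, hp, Subtype.ext h⟩
  -- the form
  let ω : V → V → ZMod 2 := fun φ ψ =>
    if h : ∃ q, ∃ hq : q ∈ D, ψ = io q hq then (φ : G → ZMod 2) h.choose else 0
  have hω : ∀ φ q (hq : q ∈ D), ω φ (io q hq) = (φ : G → ZMod 2) q := fun φ q hq => by
    have h : ∃ q', ∃ hq' : q' ∈ D, io q hq = io q' hq' := ⟨q, hq, rfl⟩
    show dite _ _ _ = _
    rw [dif_pos h]
    obtain ⟨hq', he⟩ := h.choose_spec
    rw [← P.iota_inj hq hq' (congrArg Subtype.val he)]
  have hω0 : ∀ φ, ω φ 0 = 0 := fun φ => by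
    refine dif_neg ?_
    rintro ⟨q, hq, h⟩
    exact P.iota_ne_zero hq (congrArg Subtype.val h).symm
  have hω0' : ∀ φ, ω 0 φ = 0 := fun φ => by
    rcases hVcases φ with rfl | ⟨q, hq, rfl⟩
    exacts [hω0 _, (hω _ q hq).trans rfl]
  have hsymm : ∀ φ ψ, ω φ ψ = ω ψ φ := fun φ ψ => by
    rcases hVcases φ with rfl | ⟨p, hp, rfl⟩
    · rw [hω0, hω0']
    rcases hVcases ψ with rfl | ⟨q, hq, rfl⟩
    · rw [hω0, hω0']
    rw [hω _ q hq, hω _ p hp]
    exact iota_comm hp hq
  have hadd : ∀ φ φ' ψ, ω (φ + φ') ψ = ω φ ψ + ω φ' ψ := fun φ φ' ψ => by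
    rcases hVcases ψ with rfl | ⟨q, hq, rfl⟩
    · simp [hω0]
    · rw [hω _ q hq, hω _ q hq, hω _ q hq]; rfl
  have hsmul : ∀ (c : ZMod 2) φ ψ, ω (c • φ) ψ = c • ω φ ψ := fun c φ ψ => by
    rcases hVcases ψ with rfl | ⟨q, hq, rfl⟩
    · simp [hω0]
    · rw [hω _ q hq, hω _ q hq]; rfl
  let Bf : LinearMap.BilinForm (ZMod 2) V := LinearMap.mk₂ (ZMod 2) ω hadd hsmul
    (fun φ ψ ψ' => by rw [hsymm, hadd, hsymm ψ, hsymm ψ'])
    (fun c φ ψ => by rw [hsymm, hsmul, hsymm ψ])
  have hA : Bf.IsAlt := fun φ => by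
    show ω φ φ = 0
    rcases hVcases φ with rfl | ⟨p, hp, rfl⟩
    · exact hω0 _
    · rw [hω _ p hp]; exact iota_apply_of_commute (Commute.refl p)
  obtain ⟨m, k, b, ⟨hef, hee, hff⟩, hrad⟩ := Symplectic.exists_hyp_basis Bf hA
  have : IsEmpty (Fin k) := ⟨fun j => by
    refine b.ne_zero (Sum.inr j) (Subtype.ext (funext fun r => ?_))
    by_cases hr : r ∈ D
    · have := hrad j (io r hr)
      rw [show Bf (b (Sum.inr j)) (io r hr) = ω (b (Sum.inr j)) (io r hr) from rfl, hω _ r hr] at this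
      exact this
    · rcases hV.1 (b (Sum.inr j)).2 with h | ⟨p, -, h⟩ <;> rw [h]
      · rfl
      · simp [iota, hr]⟩
  let b' := b.reindex (Equiv.sumEmpty (Fin m ⊕ Fin m) (Fin k))
  let L : V ≃ₗ[ZMod 2] (Fin m ⊕ Fin m → ZMod 2) := b'.equivFun
  have hform : ∀ φ ψ, Cfsg.sympForm m (ZMod 2) (L φ) (L ψ) = ω φ ψ := by
    intro φ ψ
    have h : (Symplectic.spB m (ZMod 2)).comp L.toLinearMap L.toLinearMap = Bf := by
      refine LinearMap.BilinForm.ext_basis b' fun i j => ?_
      have hs : ∀ i, L (b' i) = Pi.single i 1 := fun i => by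
        ext l
        rw [Module.Basis.equivFun_self, Pi.single_apply]
        exact if_congr eq_comm rfl rfl
      simp only [LinearMap.BilinForm.comp_apply, LinearEquiv.coe_coe, hs, Symplectic.spB_single]
      have hb : ∀ i, b' i = b (Sum.inl i) := fun i => by
        rw [Module.Basis.reindex_apply]; rfl
      rw [hb, hb]
      rcases i with i | i <;> rcases j with j | j
      · simpa [Matrix.J] using (hee i j).symm
      · simp [Matrix.J, Matrix.one_apply, hef, apply_ite, CharTwo.neg_eq]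
      · have e := hsymm (b (Sum.inl (Sum.inr i))) (b (Sum.inl (Sum.inl j)))
        change Bf _ _ = Bf _ _ at e
        rw [e, hef]
        simp [Matrix.J, Matrix.one_apply, eq_comm]
      · simpa [Matrix.J] using (hff i j).symm
    have h2 := LinearMap.congr_fun (LinearMap.congr_fun h φ) ψ
    exact (by simpa using h2 : Cfsg.sympForm m (ZMod 2) (L φ) (L ψ) = Bf φ ψ)
  let v : G → (Fin m ⊕ Fin m → ZMod 2) := fun p => if hp : p ∈ D then L (io p hp) else 0
  have hv : ∀ {p} (hp : p ∈ D), v p = L (io p hp) := fun hp => dif_pos hp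
  have hv_inj : ∀ {p q}, p ∈ D → q ∈ D → v p = v q → p = q := fun {p q} hp hq h => by
    rw [hv hp, hv hq] at h
    exact P.iota_inj hp hq (congrArg Subtype.val (L.injective h))
  have hv_surj : ∀ w, w = 0 ∨ ∃ p ∈ D, v p = w := fun w => by
    rcases hVcases (L.symm w) with h | ⟨p, hp, h⟩
    · left; rw [← L.apply_symm_apply w, h, map_zero]
    · right; exact ⟨p, hp, by rw [hv hp, ← h, L.apply_symm_apply]⟩
  let S := Matrix.symplecticGroup (Fin m) (ZMod 2)
  have hgen : ∀ d ∈ D, ∀ p ∈ D,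
      ((Symplectic.T (v d) 1 : S) : Symplectic.Mat m (ZMod 2)).mulVec (v p) = v (cj d p) := by
    intro d hd p hp
    rw [Symplectic.T_mulVec, hv hd, hv hp, hform, one_mul, hω _ d hd,
      show ((io p hp : V) : G → ZMod 2) d = iota D p d from rfl]
    by_cases hc : Commute d p
    · rw [iota_apply_of_commute hc.symm, zero_smul, add_zero, cj_eq_of_commute hc, hv hp]
    · rw [iota_apply_of_not hd fun q => hc q.symm, one_smul, ← map_add, hv (P.mem_cj d hp)]
      obtain ⟨w, hw, e, hwe⟩ := P.iota_add h3 hd hp (H80.TTQuad.ne_of_not_commute hc)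
      obtain rfl := hwe hc
      congr 1
      exact Subtype.ext ((add_comm _ _).trans e)
  set Δ : Subgroup (G × S) := Subgroup.closure {z | ∃ d ∈ D, z = (d, Symplectic.T (v d) 1)}
  have hact : ∀ z ∈ Δ, ∀ p ∈ D,
      ((z.2 : S) : Symplectic.Mat m (ZMod 2)).mulVec (v p) = v (cj z.1 p) := by
    intro z hz
    refine Subgroup.closure_induction ?_ ?_ ?_ ?_ hz
    · rintro _ ⟨d, hd, rfl⟩; exact hgen d hd
    · intro p _
      show ((1 : Symplectic.Mat m (ZMod 2))).mulVec (v p) = v (cj 1 p)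
      rw [Matrix.one_mulVec, cj_one]
    · intro z z' _ _ ih ih' p hp
      show (((z.2 : S) : Symplectic.Mat m (ZMod 2)) * ((z'.2 : S) : Symplectic.Mat m (ZMod 2))).mulVec
        (v p) = v (cj (z.1 * z'.1) p)
      rw [← Matrix.mulVec_mulVec, ih' p hp, ih _ (P.mem_cj z'.1 hp), cj_cj]
    · intro z _ ih p hp
      have h := ih _ (P.mem_cj z.1⁻¹ hp)
      rw [cj_cj_inv] at h
      show (((z.2⁻¹ : S)) : Symplectic.Mat m (ZMod 2)).mulVec (v p) = v (cj z.1⁻¹ p)
      rw [← h, Matrix.mulVec_mulVec, ← Submonoid.coe_mul, inv_mul_cancel, Submonoid.coe_one,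
        Matrix.one_mulVec]
  let π₁ := (MonoidHom.fst G S).comp Δ.subtype
  let π₂ := (MonoidHom.snd G S).comp Δ.subtype
  have b1 : Function.Bijective π₁ := by
    refine ⟨(injective_iff_map_eq_one π₁).2 fun z hz => Subtype.ext (Prod.ext hz ?_),
      MonoidHom.range_eq_top.1 ?_⟩
    · refine Symplectic.sp_ext fun w => ?_
      change ((z : G × S).2 : Symplectic.Mat m (ZMod 2)).mulVec w =
        ((1 : S) : Symplectic.Mat m (ZMod 2)).mulVec w
      rw [Submonoid.coe_one, Matrix.one_mulVec]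
      rcases hv_surj w with rfl | ⟨p, hp, rfl⟩
      · rw [Matrix.mulVec_zero]
      · rw [hact _ z.2 p hp, show ((z : G × S)).1 = 1 from hz, cj_one]
    · rw [eq_top_iff, ← P.cl.2.2, Subgroup.closure_le]
      exact fun d hd => ⟨⟨(d, Symplectic.T (v d) 1), Subgroup.subset_closure ⟨d, hd, rfl⟩⟩, rfl⟩
  have b2 : Function.Bijective π₂ := by
    refine ⟨(injective_iff_map_eq_one π₂).2 fun z hz => Subtype.ext (Prod.ext ?_ hz),
      MonoidHom.range_eq_top.1 ?_⟩
    · refine P.eq_one_of_fix fun p hp => hv_inj (P.mem_cj _ hp) hp ?_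
      rw [← hact _ z.2 p hp, show ((z : G × S)).2 = 1 from hz, Submonoid.coe_one, Matrix.one_mulVec]
    · rw [eq_top_iff, ← Symplectic.closure_TSet m (ZMod 2), Subgroup.closure_le]
      rintro _ ⟨w, c, rfl⟩
      rcases (show c = 0 ∨ c = 1 by revert c; decide) with rfl | rfl
      · rw [Symplectic.T_zero]; exact one_mem _
      · rcases hv_surj w with rfl | ⟨p, hp, rfl⟩
        · rw [show Symplectic.T (0 : Fin m ⊕ Fin m → ZMod 2) 1 = 1 from
            Symplectic.sp_ext fun u => by simp [Symplectic.T_mulVec]]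
          exact one_mem _
        · exact ⟨⟨(p, Symplectic.T (v p) 1), Subgroup.subset_closure ⟨p, hp, rfl⟩⟩, rfl⟩
  refine ⟨m, (MulEquiv.ofBijective π₁ b1).symm.trans (MulEquiv.ofBijective π₂ b2),
    fun d hd => ⟨v d, fun h => P.iota_ne_zero hd ?_, ?_⟩⟩
  · rw [hv hd, map_eq_zero_iff _ L.injective] at h
    exact congrArg Subtype.val h
  · have h : (MulEquiv.ofBijective π₁ b1).symm d =
        ⟨(d, Symplectic.T (v d) 1), Subgroup.subset_closure ⟨d, hd, rfl⟩⟩ :=
      (MulEquiv.ofBijective π₁ b1).symm_apply_eq.2 rfl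
    rw [MulEquiv.trans_apply, h]
    rfl

/-- Lines of three points give a symplectic group. -/
theorem exists_sp_iso : ∃ n : ℕ, Nonempty (G ≃* Matrix.symplecticGroup (Fin n) (ZMod 2)) :=
  let ⟨n, e, _⟩ := P.exists_sp_class h3
  ⟨n, ⟨e⟩⟩

end Polar

end Cfsg.Agent.H80.TTPolar
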