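import Cfsg.Agent.H80.TTPolar.Orbit
import Cfsg.Agent.H59.F4

/-!
Charts of the lines through `x` in the field with four elements; the twin group acts by
translations, and the charts can be chosen so that these translations depend linearly on the twin.
-/

set_option autoImplicit false
set_option linter.unusedSectionVars false

namespace Cfsg.Agent.H80.TTPolar

open Cfsg
open H76.LocallyS3 (nb cj cj_cj cj_injective commute_cj_iff)
open H80.TTQuad (Cls B OnLine T far cjOrb cj_one cj_inv_cj cj_cj_inv cj_eq_of_commute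
  commute_of_cj_eq nb_symm cj_mul_self mem_T_of_commute far_symm ne_of_not_commute)

universe u

/-- The field with four elements. -/
abbrev Fq : Type := H59.HeSp4.F4

/-- An element of order three. -/
def om : Fq := ((0, 1) : H44.K4)

/-- The identity or the field automorphism of order two. -/
def sig (k : ZMod 2) (a : Fq) : Fq := if k = 0 then a else a * a

/-- The alternating form over the prime field. -/
def dd (a b : Fq) : Fq := a * b ^ 2 + a ^ 2 * b

theorem fq_add_self : ∀ a : Fq, a + a = 0 := by decide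

theorem fq_eq_of_add : ∀ a b : Fq, a + b = 0 → a = b := by decide

theorem fq_four : ∀ a b c : Fq, a ≠ 0 → b ≠ 0 → c ≠ 0 → a ≠ b → a ≠ c → b ≠ c → c = a + b := by
  decide

theorem fq_cases : ∀ a : Fq, a = 0 ∨ a = 1 ∨ a = om ∨ a = 1 + om := by decide

theorem sig_sig : ∀ (k : ZMod 2) (a : Fq), sig k (sig k a) = a := by decide

theorem sig_zero : ∀ k : ZMod 2, sig k 0 = 0 := by decide

theorem dd_eq_zero : ∀ a : Fq, dd 0 a = 0 ∧ dd a 0 = 0 ∧ dd a a = 0 := by decide

theorem dd_eq_one : ∀ a b : Fq, a ≠ 0 → b ≠ 0 → a ≠ b → dd a b = 1 := by decide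

variable {G : Type u} [Group G] {D : Set G}

/-- Injective labels of the points of the lines through `x`, zero on `T D x f`. -/
def Chart (D : Set G) (x f : G) (e : G → G → Fq) : Prop :=
  ∀ t ∈ T D x f, e t t = 0 ∧ Set.InjOn (e t) (Ln D x t \ {x})

open Classical in
/-- The translations induced by `u`. -/
noncomputable def coo (D : Set G) (x f : G) (e : G → G → Fq) (u : G) : G → Fq :=
  fun t => if t ∈ T D x f then e t (cj u t) else 0

open Classical in
/-- The point with a given label. -/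
noncomputable def point (D : Set G) (x : G) (e : G → G → Fq) (t : G) (a : Fq) : G :=
  if h : ∃ y ∈ Ln D x t \ {x}, e t y = a then h.choose else t

/-- The twin of a labelled point. -/
noncomputable def tw (D : Set G) (x : G) (e : G → G → Fq) (t : G) (a : Fq) : G :=
  t * point D x e t a

open Classical in
/-- Whether two elements fail to commute. -/
noncomputable def beta (u v : G) : Fq := if cj u v = v then 0 else 1

open Classical in
/-- Whether the translation at `s` depends semilinearly on the twin at `t`. -/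
noncomputable def kap (D : Set G) (x f : G) (e : G → G → Fq) (t s : G) : ZMod 2 :=
  if ∀ a, coo D x f e (tw D x e t a) s = coo D x f e (tw D x e t 1) s * a then 0 else 1

theorem beta_comm (u v : G) : beta u v = beta v u := by
  classical
  have h : cj u v = v ↔ cj v u = u :=
    ⟨fun h => cj_eq_of_commute (commute_of_cj_eq h).symm,
      fun h => cj_eq_of_commute (commute_of_cj_eq h).symm⟩
  exact if_congr h rfl rfl

theorem coo_apply {x f : G} {e : G → G → Fq} {u t : G} (ht : t ∈ T D x f) :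
    coo D x f e u t = e t (cj u t) := if_pos ht

theorem coo_off {x f : G} {e : G → G → Fq} {u t : G} (ht : t ∉ T D x f) :
    coo D x f e u t = 0 := if_neg ht

namespace Five

variable [Finite G] (P : Five D) {x f : G} (hx : x ∈ D) (hf : f ∈ far D x)
include P hx hf

theorem exists_chart : ∃ e, Chart D x f e := by
  classical
  have hφ : ∀ t ∈ T D x f, Nonempty (↥(Ln D x t \ {x}) ≃ Fq) := fun t ht => by
    have h4 : Nat.card ↥(Ln D x t \ {x}) = 4 := by
      rw [Nat.card_coe_set_eq, Set.ncard_sdiff_singleton_of_mem (P.left_mem hx), P.five x hx t ht.1]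
    exact ⟨(Finite.equivFinOfCardEq h4).trans (Fintype.equivFinOfCardEq H59.HeSp4.card_F4).symm⟩
  let φ := fun t (ht : t ∈ T D x f) => (hφ t ht).some
  refine ⟨fun t y => if h : t ∈ T D x f ∧ y ∈ Ln D x t \ {x} then
    φ t h.1 ⟨y, h.2⟩ + φ t h.1 ⟨t, P.right_mem h.1.1, h.1.1.2.1⟩ else 0, fun t ht => ⟨?_, ?_⟩⟩
  · simp only
    split_ifs with h
    · exact fq_add_self _
    · rfl
  · intro y hy z hz h
    simp only [dif_pos (And.intro ht hy), dif_pos (And.intro ht hz)] at h
    exact congrArg Subtype.val ((φ t ht).injective (add_right_cancel h))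

variable {e : G → G → Fq} (he : Chart D x f e)
include he

theorem exists_point {t : G} (ht : t ∈ T D x f) (a : Fq) :
    ∃ y ∈ Ln D x t \ {x}, e t y = a := by
  have h : e t '' (Ln D x t \ {x}) = Set.univ := by
    refine Set.eq_of_subset_of_ncard_le (Set.subset_univ _) ?_ (Set.toFinite _)
    rw [(he t ht).2.ncard_image, Set.ncard_sdiff_singleton_of_mem (P.left_mem hx),
      P.five x hx t ht.1, Set.ncard_univ, Nat.card_eq_fintype_card, H59.HeSp4.card_F4]
  have := Set.mem_univ a
  rwa [← h] at this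

theorem point_spec {t : G} (ht : t ∈ T D x f) (a : Fq) :
    point D x e t a ∈ Ln D x t ∧ point D x e t a ≠ x ∧ e t (point D x e t a) = a := by
  classical
  have h := P.exists_point hx hf he ht a
  rw [show point D x e t a = h.choose from dif_pos h]
  exact ⟨h.choose_spec.1.1, h.choose_spec.1.2, h.choose_spec.2⟩

theorem point_eq {t y : G} (ht : t ∈ T D x f) (hy : y ∈ Ln D x t) (hyx : y ≠ x) :
    point D x e t (e t y) = y := by
  obtain ⟨h1, h2, h3⟩ := P.point_spec hx hf he ht (e t y)
  exact (he t ht).2 ⟨h1, h2⟩ ⟨hy, hyx⟩ h3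

theorem point_zero {t : G} (ht : t ∈ T D x f) : point D x e t 0 = t := by
  have h := P.point_eq hx hf he ht (P.right_mem ht.1) ht.1.2.1
  rwa [(he t ht).1] at h

theorem point_ne {t : G} (ht : t ∈ T D x f) {a : Fq} (ha : a ≠ 0) : point D x e t a ≠ t :=
  fun h => ha ((P.point_spec hx hf he ht a).2.2.symm.trans (by rw [h]; exact (he t ht).1))

theorem tw_mem {t : G} (ht : t ∈ T D x f) (a : Fq) : tw D x e t a ∈ Tw D x :=
  P.mem_twin ht.1 (P.point_spec hx hf he ht a).1 (P.point_spec hx hf he ht a).2.1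

theorem tw_zero {t : G} (ht : t ∈ T D x f) : tw D x e t 0 = 1 := by
  rw [tw, P.point_zero hx hf he ht, P.sq ht.1.1]

theorem cj_label {t y u : G} (hu : u ∈ Tw D x) (ht : t ∈ T D x f) (hy : y ∈ Ln D x t)
    (hyx : y ≠ x) : e t (cj u y) = e t y + e t (cj u t) := by
  by_cases hyt : y = t
  · rw [hyt, (he t ht).1, zero_add]
  obtain ⟨hzt, hzx⟩ := P.cj_Tw_line hx hu ht.1
  obtain ⟨hwy, hwx⟩ := P.cj_Tw_line hx hu (P.mem_nb hx ht.1 hy hyx)
  rw [P.Ln_eq hx ht.1 hy hyx] at hwy
  rcases P.translate_cases hx hu ht.1 hy hyx hyt with h | h | ⟨h1, h2, h3, h4, -⟩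
  · rw [h.1, h.2, (he t ht).1, add_zero]
  · rw [h.1, h.2, (he t ht).1, fq_add_self]
  have hinj : ∀ {p q : G}, p ∈ Ln D x t → p ≠ x → q ∈ Ln D x t → q ≠ x → p ≠ q → e t p ≠ e t q :=
    fun hp hpx hq hqx hne h => hne ((he t ht).2 ⟨hp, hpx⟩ ⟨hq, hqx⟩ h)
  have m := P.right_mem ht.1
  refine fq_four _ _ _ ?_ ?_ ?_ (hinj hy hyx hzt hzx fun h => h2 h.symm)
    (hinj hy hyx hwy hwx fun h => h4 h.symm)
    (hinj hzt hzx hwy hwx fun h => hyt (cj_injective u h).symm) <;> rw [← (he t ht).1]
  exacts [hinj hy hyx m ht.1.2.1 hyt, hinj hzt hzx m ht.1.2.1 h1, hinj hwy hwx m ht.1.2.1 h3]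

theorem coo_mul {u v : G} (hu : u ∈ Tw D x) (hv : v ∈ Tw D x) :
    coo D x f e (u * v) = coo D x f e u + coo D x f e v := by
  funext t
  show coo D x f e (u * v) t = coo D x f e u t + coo D x f e v t
  by_cases ht : t ∈ T D x f
  · obtain ⟨h1, h2⟩ := P.cj_Tw_line hx hv ht.1
    rw [coo_apply ht, coo_apply ht, coo_apply ht, ← cj_cj, P.cj_label hx hf he hu ht h1 h2,
      add_comm]
  · rw [coo_off ht, coo_off ht, coo_off ht, add_zero]

theorem coo_one : coo D x f e 1 = 0 := by
  funext t
  by_cases ht : t ∈ T D x f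
  · rw [coo_apply ht, cj_one]; exact (he t ht).1
  · exact coo_off ht

theorem coo_x : coo D x f e x = 0 := by
  funext t
  by_cases ht : t ∈ T D x f
  · rw [coo_apply ht, cj_eq_of_commute ht.1.2.2]; exact (he t ht).1
  · exact coo_off ht

theorem coo_inv {u : G} (hu : u ∈ Tw D x) : coo D x f e u⁻¹ = coo D x f e u := by
  have h := P.coo_mul hx hf he hu (inv_mem hu)
  rw [mul_inv_cancel, P.coo_one hx hf he] at h
  funext t
  exact (fq_eq_of_add _ _ (congrFun h t).symm).symm

theorem coo_eq {u v : G} (hu : u ∈ Tw D x) (hv : v ∈ Tw D x)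
    (h : coo D x f e u = coo D x f e v) : v = u ∨ v = u * x := by
  have h2 : coo D x f e (u⁻¹ * v) = 0 := by
    rw [P.coo_mul hx hf he (inv_mem hu) hv, P.coo_inv hx hf he hu, h]
    funext t; exact fq_add_self _
  refine (P.kernel hx hf (mul_mem (inv_mem hu) hv) fun t ht => ?_).imp (fun k => ?_) (fun k => ?_)
  · obtain ⟨h1, h1'⟩ := P.cj_Tw_line hx (mul_mem (inv_mem hu) hv) ht.1
    refine (he t ht).2 ⟨h1, h1'⟩ ⟨P.right_mem ht.1, ht.1.2.1⟩ ?_
    have h3 := congrFun h2 t
    rw [coo_apply ht] at h3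
    rw [h3, (he t ht).1]; rfl
  · exact (inv_mul_eq_one.1 k).symm
  · rw [← k, mul_inv_cancel_left]

theorem tw_mul {t : G} (ht : t ∈ T D x f) (a b : Fq) :
    tw D x e t a * tw D x e t b = tw D x e t (a + b) ∨
      tw D x e t a * tw D x e t b = tw D x e t (a + b) * x := by
  have ht1 := ht.1
  have S := fun c => P.point_spec hx hf he ht c
  have hcl : ∀ {p q : G}, p ∈ Ln D x t → q ∈ Ln D x t → Commute p q :=
    fun hp hq => P.clique hx ht1 hp hq
  have hmt := P.right_mem ht1
  have e1 : tw D x e t a * tw D x e t b = point D x e t a * point D x e t b := by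
    rw [tw, tw, (hcl hmt (S a).1).eq, mul_assoc, ← mul_assoc t t, P.sq ht1.1, one_mul]
  by_cases ha : a = 0
  · left; rw [ha, P.tw_zero hx hf he ht, one_mul, zero_add]
  by_cases hb : b = 0
  · left; rw [hb, P.tw_zero hx hf he ht, mul_one, add_zero]
  by_cases hab : a = b
  · left; rw [e1, hab, fq_add_self, P.tw_zero hx hf he ht, P.sq (S b).1.1]
  right
  have hc : a + b ≠ 0 := fun h => hab (fq_eq_of_add _ _ h)
  have hne : ∀ {c c' : Fq}, c ≠ c' → point D x e t c ≠ point D x e t c' := fun {c c'} hcc h =>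
    hcc (((S c).2.2.symm.trans (congrArg (e t) h)).trans (S c').2.2)
  have h := P.five_prod hx ht1 (S a).1 (S b).1 (S (a + b)).1 (S a).2.1 (S b).2.1 (S (a + b)).2.1
    (P.point_ne hx hf he ht ha).symm (P.point_ne hx hf he ht hb).symm
    (P.point_ne hx hf he ht hc).symm (hne hab) (hne fun h => hb (left_eq_add.1 h))
    (hne fun h => ha (right_eq_add.1 h))
  rw [e1, tw]
  set p := point D x e t a
  set q := point D x e t b
  set r := point D x e t (a + b)
  calc p * q = t * (x * (x * (t * p * (q * r)))) * r := by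
        rw [← mul_assoc x x, P.sq hx, one_mul, mul_assoc t p, ← mul_assoc t t, P.sq ht1.1, one_mul,
          ← mul_assoc p q r, mul_assoc _ r r, P.sq (S (a + b)).1.1, mul_one]
    _ = t * r * x := by
        rw [h, mul_one, mul_assoc, (hcl (P.left_mem hx) (S (a + b)).1).eq, ← mul_assoc]

/-- The dependence of the translation at `s` on the twin at `t`. -/
theorem M_add {t : G} (ht : t ∈ T D x f) (a b : Fq) :
    coo D x f e (tw D x e t (a + b)) = coo D x f e (tw D x e t a) + coo D x f e (tw D x e t b) := by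
  rw [← P.coo_mul hx hf he (P.tw_mem hx hf he ht a) (P.tw_mem hx hf he ht b)]
  rcases P.tw_mul hx hf he ht a b with h | h <;> rw [h]
  rw [P.coo_mul hx hf he (P.tw_mem hx hf he ht _) (P.mem_x x), P.coo_x hx hf he, add_zero]

theorem M_eq_zero_iff {t s : G} (ht : t ∈ T D x f) (hs : s ∈ T D x f) {a : Fq} :
    coo D x f e (tw D x e t a) s = 0 ↔ a = 0 ∨ Commute t s := by
  obtain ⟨hp, hpx, -⟩ := P.point_spec hx hf he ht a
  rw [coo_apply hs]
  by_cases ha : a = 0
  · simp [ha, P.tw_zero hx hf he ht, cj_one, (he s hs).1]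
  simp only [ha, false_or]
  by_cases hts : Commute t s
  · simp only [hts, iff_true]
    have hps : Commute s (point D x e t a) := (P.commute_iff_of_Ln hx ht.1 hp hpx hs.1).2 hts.symm
    rw [tw, cj_eq_of_commute (hts.mul_left hps.symm)]
    exact (he s hs).1
  · simp only [hts, iff_false]
    intro h0
    obtain ⟨h1, h2, h3⟩ := P.pair_move hx hs.1 ht.1 hp hpx fun h => hts h.symm
    refine P.point_ne hx hf he ht ha (h3 ((he s hs).2 ⟨h2, h1.2.1⟩ ⟨P.right_mem hs.1, hs.1.2.1⟩ ?_)).symm
    rw [← tw, h0, (he s hs).1]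

/-- Conjugating a twin by another member of `T D x f`. -/
theorem cj_tw {t s : G} (ht : t ∈ T D x f) (hs : s ∈ T D x f) (a : Fq) :
    tw D x e s (coo D x f e (tw D x e t a) s) * tw D x e t a = cj s (tw D x e t a) ∧
      ∃ a', cj s (tw D x e t a) = tw D x e (cj s t) a' ∧ (a' = 0 → a = 0) := by
  obtain ⟨hp, hpx, -⟩ := P.point_spec hx hf he ht a
  have hτ := P.tw_mem hx hf he ht a
  constructor
  · obtain ⟨h1, h2⟩ := P.cj_Tw_line hx hτ hs.1
    rw [coo_apply hs]
    conv_lhs => rw [tw, P.point_eq hx hf he hs h1 h2]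
    simp only [cj, P.inv' hs.1.1]
    group
  · have hh := P.T_cj hs ht
    have hl := (P.onLine_cj s).2 (hp : OnLine D x t (point D x e t a))
    rw [cj_eq_of_commute hs.1.2.2.symm] at hl
    have hlx : cj s (point D x e t a) ≠ x := fun h =>
      hpx (cj_injective s (h.trans (cj_eq_of_commute hs.1.2.2.symm).symm))
    refine ⟨e (cj s t) (cj s (point D x e t a)), ?_, fun h0 => ?_⟩
    · conv_rhs => rw [tw, P.point_eq hx hf he hh hl hlx]
      exact cj_mul _ _ _
    · by_contra ha
      refine P.point_ne hx hf he ht ha (cj_injective s ((he _ hh).2 ⟨hl, hlx⟩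
        ⟨P.right_mem hh.1, hh.1.2.1⟩ ?_))
      rw [h0, (he _ hh).1]

theorem beta_tw {u t : G} (hu : u ∈ Tw D x) (ht : t ∈ T D x f) (a : Fq) :
    beta u (tw D x e t a) = dd (coo D x f e u t) a := by
  classical
  by_cases ha : a = 0
  · rw [ha, P.tw_zero hx hf he ht, (dd_eq_zero _).2.1]
    exact if_pos (by simp [cj])
  obtain ⟨hy, hyx, hye⟩ := P.point_spec hx hf he ht a
  have hyt := P.point_ne hx hf he ht ha
  have hcom : t * point D x e t a = point D x e t a * t := (P.clique hx ht.1 (P.right_mem ht.1) hy).eq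
  rw [coo_apply ht]
  rcases P.translate_cases hx hu ht.1 hy hyx hyt with h | h | ⟨h1, h2, -, -, h5⟩
  · rw [h.1, (he t ht).1, (dd_eq_zero _).1]
    exact if_pos (by rw [tw, cj_mul, h.1, h.2])
  · rw [h.1, hye, (dd_eq_zero _).2.2]
    exact if_pos (by rw [tw, cj_mul, h.1, h.2, ← hcom])
  · obtain ⟨hzt, hzx⟩ := P.cj_Tw_line hx hu ht.1
    rw [dd_eq_one _ _ (fun h => h1 ((he t ht).2 ⟨hzt, hzx⟩ ⟨P.right_mem ht.1, ht.1.2.1⟩ (h.trans (he t ht).1.symm)))
      ha (fun h => h2 ((he t ht).2 ⟨hzt, hzx⟩ ⟨hy, hyx⟩ (h.trans hye.symm)))]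
    refine if_neg ?_
    rw [tw, h5]
    exact fun h => H44.tt_ne_one P.cl.1 hx (mul_eq_left.1 h)

theorem M_symm {t s : G} (ht : t ∈ T D x f) (hs : s ∈ T D x f) (a b : Fq) :
    dd (coo D x f e (tw D x e t a) s) b = dd (coo D x f e (tw D x e s b) t) a := by
  rw [← P.beta_tw hx hf he (P.tw_mem hx hf he ht a) hs,
    ← P.beta_tw hx hf he (P.tw_mem hx hf he hs b) ht, beta_comm]

theorem M_form {t s : G} (ht : t ∈ T D x f) (hs : s ∈ T D x f) (hts : ¬ Commute t s) (a : Fq) :
    coo D x f e (tw D x e t a) s =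
      coo D x f e (tw D x e t 1) s * sig (kap D x f e t s) a := by
  classical
  set M := fun c => coo D x f e (tw D x e t c) s with hM
  have hadd : ∀ c d, M (c + d) = M c + M d := fun c d => congrFun (P.M_add hx hf he ht c d) s
  have h0 : ∀ c, M c = 0 → c = 0 := fun c hc =>
    ((P.M_eq_zero_iff hx hf he ht hs).1 hc).resolve_right hts
  have hz : M 0 = 0 := (P.M_eq_zero_iff hx hf he ht hs).2 (Or.inl rfl)
  have hform : ∀ p q : Fq, p ≠ 0 → q ≠ 0 → p + q ≠ 0 → q = p * om ∨ q = p * (om * om) := by decide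
  have h1 : M 1 ≠ 0 := fun h => absurd (h0 _ h) (by decide)
  have hom : M om ≠ 0 := fun h => absurd (h0 _ h) (by decide)
  have hsum : M 1 + M om ≠ 0 := fun h => absurd (h0 _ ((hadd _ _).trans h)) (by decide)
  have hv : ∀ c : Fq, M c = 0 ∧ c = 0 ∨ M c = M 1 ∧ c = 1 ∨ M c = M om ∧ c = om ∨
      M c = M 1 + M om ∧ c = 1 + om := fun c => by
    rcases fq_cases c with rfl | rfl | rfl | rfl
    exacts [Or.inl ⟨hz, rfl⟩, Or.inr (Or.inl ⟨rfl, rfl⟩), Or.inr (Or.inr (Or.inl ⟨rfl, rfl⟩)),
      Or.inr (Or.inr (Or.inr ⟨hadd _ _, rfl⟩))]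
  by_cases hl : ∀ c, M c = M 1 * c
  · rw [show kap D x f e t s = 0 from if_pos hl]
    exact hl a
  rw [show kap D x f e t s = 1 from if_neg hl]
  have hom2 : M om = M 1 * (om * om) := by
    refine (hform _ _ h1 hom hsum).resolve_left fun h => hl fun c => ?_
    rcases hv c with ⟨hc, rfl⟩ | ⟨hc, rfl⟩ | ⟨hc, rfl⟩ | ⟨hc, rfl⟩
    · rw [hc, mul_zero]
    · rw [mul_one]
    · exact h
    · rw [hc, h, mul_add, mul_one]
  show M a = M 1 * (a * a)
  rcases hv a with ⟨hc, rfl⟩ | ⟨hc, rfl⟩ | ⟨hc, rfl⟩ | ⟨hc, rfl⟩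
  · rw [hc, mul_zero, mul_zero]
  · rw [mul_one, mul_one]
  · exact hom2
  · rw [hc, hom2, show (1 + om) * (1 + om) = (1 : Fq) + om * om by decide, mul_add, mul_one]

theorem kap_symm {t s : G} (ht : t ∈ T D x f) (hs : s ∈ T D x f) (hts : ¬ Commute t s) :
    kap D x f e t s = kap D x f e s t := by
  have key : ∀ (j k : ZMod 2) (m n : Fq), m ≠ 0 → n ≠ 0 →
      (∀ a b, dd (m * sig j a) b = dd (n * sig k b) a) → j = k := by decide +kernel
  refine key _ _ (coo D x f e (tw D x e t 1) s) (coo D x f e (tw D x e s 1) t)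
    (fun h => hts (((P.M_eq_zero_iff hx hf he ht hs).1 h).resolve_left one_ne_zero))
    (fun h => hts (((P.M_eq_zero_iff hx hf he hs ht).1 h).resolve_left one_ne_zero).symm)
    fun a b => ?_
  rw [← P.M_form hx hf he ht hs hts, ← P.M_form hx hf he hs ht fun h => hts h.symm]
  exact P.M_symm hx hf he ht hs a b

theorem kap_triangle {t s w : G} (ht : t ∈ T D x f) (hs : s ∈ T D x f) (hw : w ∈ T D x f)
    (hts : ¬ Commute t s) (hsw : ¬ Commute s w) (htw : ¬ Commute t w) :
    kap D x f e t w = kap D x f e t s + kap D x f e s w := by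
  have key : ∀ (i j k : ZMod 2) (m n d : Fq), m ≠ 0 → n ≠ 0 → d ≠ 0 →
      ((∀ a, a ≠ 0 → n * sig j (m * sig i a) + d * sig k a = 0) ∨
        (∀ a, a ≠ 0 → n * sig j (m * sig i a) + d * sig k a ≠ 0)) → k = i + j := by decide +kernel
  have hne : ∀ {p q : G}, p ∈ T D x f → q ∈ T D x f → ¬ Commute p q →
      coo D x f e (tw D x e p 1) q ≠ 0 := fun hp hq hpq h =>
    hpq (((P.M_eq_zero_iff hx hf he hp hq).1 h).resolve_left one_ne_zero)
  refine key _ _ _ _ _ _ (hne ht hs hts) (hne hs hw hsw) (hne ht hw htw) ?_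
  have hval : ∀ a, ∃ a', coo D x f e (tw D x e (cj s t) a') w =
      coo D x f e (tw D x e s 1) w * sig (kap D x f e s w)
        (coo D x f e (tw D x e t 1) s * sig (kap D x f e t s) a) +
      coo D x f e (tw D x e t 1) w * sig (kap D x f e t w) a ∧ (a' = 0 → a = 0) := fun a => by
    obtain ⟨h1, a', h2, h3⟩ := P.cj_tw hx hf he ht hs a
    refine ⟨a', ?_, h3⟩
    rw [← P.M_form hx hf he ht hs hts, ← P.M_form hx hf he hs hw hsw, ← P.M_form hx hf he ht hw htw,
      ← h2, ← h1, P.coo_mul hx hf he (P.tw_mem hx hf he hs _) (P.tw_mem hx hf he ht a)]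
    rfl
  by_cases hc : Commute (cj s t) w
  · left
    intro a _
    obtain ⟨a', h, -⟩ := hval a
    rw [← h]
    exact (P.M_eq_zero_iff hx hf he (P.T_cj hs ht) hw).2 (Or.inr hc)
  · right
    intro a ha h0
    obtain ⟨a', h, h'⟩ := hval a
    rw [← h] at h0
    exact ha (h' (((P.M_eq_zero_iff hx hf he (P.T_cj hs ht) hw).1 h0).resolve_right hc))

omit he in
theorem exists_good {b t : G} (hb : b ∈ T D x f) (ht : t ∈ T D x f) :
    ∃ v ∈ T D x f, ¬ Commute v b ∧ ¬ Commute v t := by
  by_contra hno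
  push Not at hno
  obtain ⟨a, ha, hab⟩ : ∃ a ∈ T D x f, ¬ Commute a b := by
    by_contra h
    push Not at h
    exact P.T_nondeg hx hf hb.1 fun a ha => (h a ha).symm
  obtain ⟨c, hc, hct⟩ : ∃ c ∈ T D x f, ¬ Commute c t := by
    by_contra h
    push Not at h
    exact P.T_nondeg hx hf ht.1 fun a ha => (h a ha).symm
  have hat : Commute a t := hno a ha hab
  have hcb : Commute c b := by_contra fun h => hct (hno c hc h)
  by_cases hac : Commute a c
  · have hcn : c ∈ nb D a := ⟨hc.1.1, fun h => hct (h ▸ hat), hac⟩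
    obtain ⟨r, hr, hra, hrc⟩ := P.thick a ha.1.1 c hcn
    have hrL : r ∈ Ln D a c := hr
    have hcom : ∀ d ∈ D, Commute d a → Commute d c → Commute d r := fun d hd h h' =>
      P.commute_all ha.1.1 hcn (P.left_mem ha.1.1) (P.right_mem hcn) (Ne.symm hcn.2.1) hd h h' hrL
    have hrT : r ∈ T D x f := mem_T_of_commute hf.2 hr.1
      (hcom x hx ha.1.2.2 hc.1.2.2) (hcom f hf.1 ha.2.2.2 hc.2.2.2)
    refine hct ?_
    have hrb : ¬ Commute b r := fun h => hab (P.commute_all ha.1.1 hcn (P.right_mem hcn) hrL hrc.symm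
      hb.1.1 hcb.symm h (P.left_mem ha.1.1)).symm
    exact (P.commute_all ha.1.1 hcn (P.left_mem ha.1.1) hrL hra.symm ht.1.1 hat.symm
      (hno r hrT fun h => hrb h.symm).symm (P.right_mem hcn)).symm
  · have hw := P.T_cj ha hc
    have hwb : ¬ Commute (cj a c) b := fun h => hab (by
      have h2 : Commute (cj c (cj a c)) b :=
        ((hcb.mul_left h).mul_left hcb.inv_left)
      rwa [P.braid ha.1.1 hc.1.1 hac, P.cj_invol hc.1.1] at h2)
    have hwt := hno _ hw hwb
    refine hct ?_
    have h2 : Commute (cj a (cj a c)) t := (hat.mul_left hwt).mul_left hat.inv_left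
    rwa [P.cj_invol ha.1.1] at h2

/-- The kind of the translations is a coboundary. -/
theorem exists_potential : ∃ g : G → ZMod 2, ∀ t ∈ T D x f, ∀ s ∈ T D x f, ¬ Commute t s →
    kap D x f e t s = g t + g s := by
  classical
  obtain ⟨a₀, ha₀⟩ := P.nb_nonempty hx
  obtain ⟨b, hb, -, -⟩ := P.exists_T hx hf ha₀
  have hsym := fun {t s} (ht : t ∈ T D x f) (hs : s ∈ T D x f) (h : ¬ Commute t s) =>
    P.kap_symm hx hf he ht hs h
  have htri := fun {t s w} (ht : t ∈ T D x f) (hs : s ∈ T D x f) (hw : w ∈ T D x f) h h' h'' =>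
    P.kap_triangle hx hf he (t := t) (s := s) (w := w) ht hs hw h h' h''
  let g : G → ZMod 2 := fun t =>
    if h : t ∈ T D x f then
      kap D x f e b (P.exists_good hx hf hb h).choose + kap D x f e (P.exists_good hx hf hb h).choose t
    else 0
  have step : ∀ {t v v'}, t ∈ T D x f → v ∈ T D x f → v' ∈ T D x f → ¬ Commute v b → ¬ Commute v t →
      ¬ Commute v' b → ¬ Commute v' t → ¬ Commute v v' →
      kap D x f e b v + kap D x f e v t = kap D x f e b v' + kap D x f e v' t := by
    intro t v v' ht hv hv' h1 h2 h3 h4 h5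
    rw [htri hb hv hv' (fun h => h1 h.symm) h5 (fun h => h3 h.symm),
      htri hv' hv ht (fun h => h5 h.symm) h2 h4, hsym hv' hv fun h => h5 h.symm]
    have : ∀ p q r : ZMod 2, p + r = p + q + (q + r) := by decide
    exact this _ _ _
  have indep : ∀ {t v}, t ∈ T D x f → v ∈ T D x f → ¬ Commute v b → ¬ Commute v t →
      g t = kap D x f e b v + kap D x f e v t := by
    intro t v ht hv h1 h2
    show dite _ _ _ = _
    rw [dif_pos ht]
    obtain ⟨h0, h0b, h0t⟩ := (P.exists_good hx hf hb ht).choose_spec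
    set v₀ := (P.exists_good hx hf hb ht).choose
    by_cases htb : Commute b t
    · by_cases hvv : Commute v₀ v
      · have hw := P.T_cj hb h0
        have hwb : ¬ Commute (cj b v₀) b := fun h =>
          (P.not_commute_cj hb.1.1 h0.1.1 fun q => h0b q.symm).2 h.symm
        have hwt : ¬ Commute (cj b v₀) t := fun h => h0t (by
          rw [← cj_eq_of_commute htb] at h; exact commute_cj_iff.1 h)
        have hw0 : ¬ Commute v₀ (cj b v₀) :=
          (P.not_commute_cj hb.1.1 h0.1.1 fun q => h0b q.symm).1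
        have hwv : ¬ Commute (cj b v₀) v := fun h => h1 (by
          have h3 : Commute v (cj v₀ (cj b v₀)) :=
            (hvv.symm.mul_right h.symm).mul_right hvv.symm.inv_right
          rwa [P.braid hb.1.1 h0.1.1 fun q => h0b q.symm, P.cj_invol h0.1.1] at h3)
        rw [step ht h0 hw h0b h0t hwb hwt hw0, step ht hw hv hwb hwt h1 h2 hwv]
      · exact step ht h0 hv h0b h0t h1 h2 hvv
    · rw [← htri hb h0 ht (fun h => h0b h.symm) h0t htb, ← htri hb hv ht (fun h => h1 h.symm) h2 htb]
  have direct : ∀ {t}, t ∈ T D x f → ¬ Commute b t → g t = kap D x f e b t := by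
    intro t ht h
    obtain ⟨v, hv, h1, h2⟩ := P.exists_good hx hf hb ht
    rw [indep ht hv h1 h2, ← htri hb hv ht (fun h => h1 h.symm) h2 h]
  refine ⟨g, fun t ht s hs hts => ?_⟩
  have hcancel : ∀ p q r : ZMod 2, p + q + r = r + (p + q) := by decide
  by_cases htb : Commute b t
  · by_cases hsb : Commute b s
    · obtain ⟨v, hv, h1, h2, h3⟩ : ∃ v ∈ T D x f, ¬ Commute v b ∧ ¬ Commute v t ∧ ¬ Commute v s := by
        obtain ⟨v, hv, h1, h2⟩ := P.exists_good hx hf hb ht
        by_cases hvs : Commute v s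
        · refine ⟨cj t v, P.T_cj ht hv, fun h => h1 ?_, fun h =>
            (P.not_commute_cj ht.1.1 hv.1.1 fun q => h2 q.symm).2 h.symm, fun h => hts ?_⟩
          · rw [← cj_eq_of_commute htb.symm] at h; exact commute_cj_iff.1 h
          · have h3 : Commute s (cj v (cj t v)) :=
              (hvs.symm.mul_right h.symm).mul_right hvs.symm.inv_right
            rw [P.braid ht.1.1 hv.1.1 fun q => h2 q.symm, P.cj_invol hv.1.1] at h3
            exact h3.symm
        · exact ⟨v, hv, h1, h2, hvs⟩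
      rw [indep ht hv h1 h2, indep hs hv h1 h3,
        htri ht hv hs (fun h => h2 h.symm) h3 hts, hsym ht hv fun h => h2 h.symm]
      have : ∀ p q r : ZMod 2, q + r = p + q + (p + r) := by decide
      exact this _ _ _
    · rw [indep ht hs (fun h => hsb h.symm) (fun h => hts h.symm), direct hs hsb,
        hsym hs ht fun h => hts h.symm]
      have : ∀ p q : ZMod 2, q = p + q + p := by decide
      exact this _ _
  · by_cases hsb : Commute b s
    · rw [indep hs ht (fun h => htb h.symm) hts, direct ht htb]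
      have : ∀ p q : ZMod 2, q = p + (p + q) := by decide
      exact this _ _
    · rw [direct ht htb, direct hs hsb, htri ht hb hs (fun h => htb h.symm) hsb hts,
        hsym ht hb fun h => htb h.symm]

omit he in
/-- The charts can be chosen so that the translations depend linearly on the twins. -/
theorem exists_linear_chart : ∃ e, Chart D x f e ∧
    ∀ t ∈ T D x f, ∀ a, coo D x f e (tw D x e t a) = a • coo D x f e (tw D x e t 1) := by
  obtain ⟨e, he⟩ := P.exists_chart hx hf
  obtain ⟨g, hg⟩ := P.exists_potential hx hf he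
  let e' : G → G → Fq := fun t y => sig (g t) (e t y)
  have he' : Chart D x f e' := fun t ht => ⟨by
    show sig (g t) (e t t) = 0
    rw [(he t ht).1, sig_zero], fun p hp q hq h => (he t ht).2 hp hq (by
    rw [← sig_sig (g t) (e t p), show sig (g t) (e t p) = sig (g t) (e t q) from h, sig_sig])⟩
  have hp : ∀ t ∈ T D x f, ∀ a, tw D x e' t a = tw D x e t (sig (g t) a) := fun t ht a => by
    obtain ⟨h1, h2, h3⟩ := P.point_spec hx hf he ht (sig (g t) a)
    have h4 := P.point_eq hx hf he' ht h1 h2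
    rw [show e' t (point D x e t (sig (g t) a)) = sig (g t) (e t (point D x e t (sig (g t) a)))
      from rfl, h3, sig_sig] at h4
    show t * _ = t * _
    rw [h4]
  refine ⟨e', he', fun t ht a => funext fun s => ?_⟩
  show coo D x f e' (tw D x e' t a) s = a * coo D x f e' (tw D x e' t 1) s
  by_cases hs : s ∈ T D x f
  · by_cases hts : Commute t s
    · rw [(P.M_eq_zero_iff hx hf he' ht hs).2 (Or.inr hts),
        (P.M_eq_zero_iff hx hf he' ht hs).2 (Or.inr hts), mul_zero]
    have e1 : ∀ u, coo D x f e' u s = sig (g s) (coo D x f e u s) := fun u => by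
      rw [coo_apply hs, coo_apply hs]
    rw [e1, e1, hp t ht, hp t ht, P.M_form hx hf he ht hs hts,
      P.M_form hx hf he ht hs hts (sig (g t) 1), hg t ht s hs hts]
    have key : ∀ (i j : ZMod 2) (m a : Fq),
        sig j (m * sig (i + j) (sig i a)) = a * sig j (m * sig (i + j) (sig i 1)) := by decide +kernel
    exact key _ _ _ _
  · rw [coo_off hs, coo_off hs, mul_zero]

end Five

end Cfsg.Agent.H80.TTPolar
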