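import Cfsg.Agent.H80.TTPolar.Chart

/-!
The twin group modulo `x` is a Hermitian space: coordinates in an orthonormal basis.
-/

set_option autoImplicit false
set_option linter.unusedSectionVars false

namespace Cfsg.Agent.H80.TTPolar

open Cfsg
open H76.LocallyS3 (nb cj cj_cj cj_injective commute_cj_iff)
open H80.TTQuad (Cls B OnLine T far cjOrb cj_one cj_inv_cj cj_cj_inv cj_eq_of_commute
  commute_of_cj_eq nb_symm cj_mul_self mem_T_of_commute far_symm ne_of_not_commute)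

universe u

variable {G : Type u} [Group G] {D : Set G}

theorem fq_card : Fintype.card Fq = 2 ^ 2 := H59.HeSp4.card_F4

/-- Coordinates of the twin group in a Hermitian space. -/
structure Frame (D : Set G) (x f : G) (e : G → G → Fq) (m : ℕ) (w : G → Fin m → Fq) : Prop where
  chart : Chart D x f e
  two : 2 ≤ m
  mul : ∀ u ∈ Tw D x, ∀ v ∈ Tw D x, w (u * v) = w u + w v
  map_x : w x = 0
  ker : ∀ u ∈ Tw D x, w u = 0 → u = 1 ∨ u = x
  surj : ∀ a, ∃ u ∈ Tw D x, w u = a
  trace : ∀ u ∈ Tw D x, ∀ v ∈ Tw D x,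
    (cj u v = v ↔ hermForm m Fq 2 (w u) (w v) + hermForm m Fq 2 (w u) (w v) ^ 2 = 0)
  proj : ∀ u ∈ Tw D x, ∀ t ∈ T D x f, ∀ a,
    hermForm m Fq 2 (w u) (w (tw D x e t a)) = coo D x f e u t * a ^ 2
  line : ∀ t ∈ T D x f, ∀ a, w (tw D x e t a) = a • w (tw D x e t 1)

open Classical in
/-- A preimage of a function under the translations. -/
noncomputable def lif (D : Set G) (x f : G) (e : G → G → Fq) (φ : G → Fq) : G :=
  if h : ∃ u ∈ Tw D x, coo D x f e u = φ then h.choose else 1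

/-- The Hermitian form on the translations. -/
noncomputable def hf' (D : Set G) (x f : G) (e : G → G → Fq) (φ ψ : G → Fq) : Fq :=
  om * beta (lif D x f e φ) (lif D x f e ψ) + beta (lif D x f e φ) (lif D x f e (om • ψ))

namespace Five

variable [Finite G] (P : Five D) {x f : G} (hx : x ∈ D) (hf : f ∈ far D x)
include P hx hf

theorem beta_mul_right {u a b : G} (hu : u ∈ Tw D x) (ha : a ∈ Tw D x) (hb : b ∈ Tw D x) :
    beta u (a * b) = beta u a + beta u b := by
  classical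
  have hne : ∀ g : G, g * x ≠ g := fun g h => H44.tt_ne_one P.cl.1 hx (mul_eq_left.1 h)
  have hxb : x * b = b * x := (P.commute_x hx hb).eq.symm
  simp only [beta]
  rcases P.cj_Tw hx hu ha with h | h <;> rcases P.cj_Tw hx hu hb with h' | h' <;>
    rw [cj_mul, h, h']
  · simp
  · rw [← mul_assoc, if_neg (hne _), if_neg (hne _)]; simp
  · rw [mul_assoc, hxb, ← mul_assoc, if_neg (hne _), if_neg (hne _)]; simp
  · rw [if_pos (by rw [mul_assoc, ← mul_assoc x, hxb, mul_assoc b, P.sq hx, mul_one]),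
      if_neg (hne _), if_neg (hne _)]
    exact (fq_add_self _).symm

theorem beta_one_right (u : G) : beta u 1 = 0 := by
  classical exact if_pos (by simp [cj])

theorem beta_x_right {u : G} (hu : u ∈ Tw D x) : beta u x = 0 := by
  classical exact if_pos (cj_eq_of_commute (P.commute_x hx hu))

variable {e : G → G → Fq} (he : Chart D x f e)
include he

theorem beta_congr {u u' v v' : G} (hu : u ∈ Tw D x) (hu' : u' ∈ Tw D x) (hv : v ∈ Tw D x)
    (hv' : v' ∈ Tw D x) (h : coo D x f e u = coo D x f e u') (h' : coo D x f e v = coo D x f e v') :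
    beta u v = beta u' v' := by
  have key : ∀ {a b b' : G}, a ∈ Tw D x → b ∈ Tw D x → b' ∈ Tw D x →
      coo D x f e b = coo D x f e b' → beta a b = beta a b' := by
    intro a b b' ha hb hb' hh
    rcases P.coo_eq hx hf he hb hb' hh with rfl | rfl
    · rfl
    · rw [P.beta_mul_right hx hf ha hb (P.mem_x x), P.beta_x_right hx hf ha, add_zero]
  rw [key hu hv hv' h', beta_comm u, key hv' hu hu' h, beta_comm]

theorem lif_spec {φ : G → Fq} (hφ : ∃ u ∈ Tw D x, coo D x f e u = φ) :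
    lif D x f e φ ∈ Tw D x ∧ coo D x f e (lif D x f e φ) = φ := by
  classical
  rw [show lif D x f e φ = hφ.choose from dif_pos hφ]
  exact hφ.choose_spec

theorem coo_induction {p : (G → Fq) → Prop} (h0 : p 0)
    (htw : ∀ t ∈ T D x f, ∀ a, p (coo D x f e (tw D x e t a)))
    (hadd : ∀ φ ψ, (∃ u ∈ Tw D x, coo D x f e u = φ) → (∃ u ∈ Tw D x, coo D x f e u = ψ) →
      p φ → p ψ → p (φ + ψ)) {φ : G → Fq} (hφ : ∃ u ∈ Tw D x, coo D x f e u = φ) : p φ := by
  obtain ⟨u, hu, rfl⟩ := hφ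
  refine Subgroup.closure_induction (p := fun u _ => p (coo D x f e u)) ?_ ?_ ?_ ?_ hu
  · rintro z (rfl | ⟨d, hd, d', hd', hd'x, rfl⟩)
    · rw [P.coo_x hx hf he]; exact h0
    obtain ⟨t, ht, hdt, -⟩ := P.exists_T hx hf hd
    have hd't : d' ∈ Ln D x t := by rwa [P.Ln_eq hx ht.1 hdt hd.2.1] at hd'
    have h1 := P.point_eq hx hf he ht hdt hd.2.1
    have h2 := P.point_eq hx hf he ht hd't hd'x
    have h3 : d * d' = tw D x e t (e t d) * tw D x e t (e t d') := by
      rw [tw, tw, h1, h2, (P.clique hx ht.1 (P.right_mem ht.1) hdt).eq, mul_assoc, ← mul_assoc t t,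
        P.sq ht.1.1, one_mul]
    rw [h3]
    rcases P.tw_mul hx hf he ht (e t d) (e t d') with h | h <;> rw [h]
    · exact htw t ht _
    · rw [P.coo_mul hx hf he (P.tw_mem hx hf he ht _) (P.mem_x x), P.coo_x hx hf he, add_zero]
      exact htw t ht _
  · rw [P.coo_one hx hf he]; exact h0
  · intro a b ha hb iha ihb
    rw [P.coo_mul hx hf he ha hb]
    exact hadd _ _ ⟨a, ha, rfl⟩ ⟨b, hb, rfl⟩ iha ihb
  · intro a ha ih
    rw [P.coo_inv hx hf he ha]; exact ih

variable (hlin : ∀ t ∈ T D x f, ∀ a,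
  coo D x f e (tw D x e t a) = a • coo D x f e (tw D x e t 1))
include hlin

theorem smul_mem {φ : G → Fq} (c : Fq) (hφ : ∃ u ∈ Tw D x, coo D x f e u = φ) :
    ∃ u ∈ Tw D x, coo D x f e u = c • φ := by
  refine P.coo_induction hx hf he (p := fun φ => ∃ u ∈ Tw D x, coo D x f e u = c • φ) ?_ ?_ ?_ hφ
  · exact ⟨1, one_mem _, by rw [smul_zero, P.coo_one hx hf he]⟩
  · exact fun t ht a => ⟨tw D x e t (c * a), P.tw_mem hx hf he ht _, by
      rw [hlin t ht (c * a), hlin t ht a, smul_smul]⟩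
  · rintro φ ψ - - ⟨u, hu, h⟩ ⟨v, hv, h'⟩
    exact ⟨u * v, mul_mem hu hv, by rw [P.coo_mul hx hf he hu hv, h, h', smul_add]⟩

/-- The coordinates. -/
theorem exists_frame : ∃ m w, Frame D x f e m w := by
  classical
  have hmem := fun {φ : G → Fq} (h : ∃ u ∈ Tw D x, coo D x f e u = φ) => P.lif_spec hx hf he h
  let W : Submodule Fq (G → Fq) :=
    { carrier := {φ | ∃ u ∈ Tw D x, coo D x f e u = φ}
      zero_mem' := ⟨1, one_mem _, P.coo_one hx hf he⟩
      add_mem' := by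
        rintro φ ψ ⟨u, hu, rfl⟩ ⟨v, hv, rfl⟩
        exact ⟨u * v, mul_mem hu hv, P.coo_mul hx hf he hu hv⟩
      smul_mem' := fun c _ h => P.smul_mem hx hf he hlin c h }
  have hW : ∀ {φ}, φ ∈ W ↔ ∃ u ∈ Tw D x, coo D x f e u = φ := Iff.rfl
  set h := hf' D x f e with hh
  have Lm : ∀ {φ : G → Fq}, φ ∈ W → lif D x f e φ ∈ Tw D x := fun hφ => (hmem hφ).1
  have Lc : ∀ {φ : G → Fq}, φ ∈ W → coo D x f e (lif D x f e φ) = φ := fun hφ => (hmem hφ).2
  have addR : ∀ {φ ψ ψ'}, φ ∈ W → ψ ∈ W → ψ' ∈ W → h φ (ψ + ψ') = h φ ψ + h φ ψ' := by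
    intro φ ψ ψ' hφ hψ hψ'
    have key : ∀ {ψ ψ'}, ψ ∈ W → ψ' ∈ W → beta (lif D x f e φ) (lif D x f e (ψ + ψ')) =
        beta (lif D x f e φ) (lif D x f e ψ) + beta (lif D x f e φ) (lif D x f e ψ') := by
      intro ψ ψ' hψ hψ'
      rw [← P.beta_mul_right hx hf (Lm hφ) (Lm hψ) (Lm hψ')]
      refine P.beta_congr hx hf he (Lm hφ) (Lm hφ) (Lm (add_mem hψ hψ'))
        (mul_mem (Lm hψ) (Lm hψ')) rfl ?_
      rw [Lc (add_mem hψ hψ'), P.coo_mul hx hf he (Lm hψ) (Lm hψ'), Lc hψ, Lc hψ']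
    simp only [hh, hf', smul_add, key hψ hψ', key (W.smul_mem om hψ) (W.smul_mem om hψ')]
    ring
  have addL : ∀ {φ φ' ψ}, φ ∈ W → φ' ∈ W → ψ ∈ W → h (φ + φ') ψ = h φ ψ + h φ' ψ := by
    intro φ φ' ψ hφ hφ' hψ
    have key : ∀ {ψ}, ψ ∈ W → beta (lif D x f e (φ + φ')) (lif D x f e ψ) =
        beta (lif D x f e φ) (lif D x f e ψ) + beta (lif D x f e φ') (lif D x f e ψ) := by
      intro ψ hψ
      rw [beta_comm (lif D x f e φ), beta_comm (lif D x f e φ'),
        ← P.beta_mul_right hx hf (Lm hψ) (Lm hφ) (Lm hφ'), beta_comm (lif D x f e ψ)]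
      refine P.beta_congr hx hf he (Lm (add_mem hφ hφ')) (mul_mem (Lm hφ) (Lm hφ')) (Lm hψ)
        (Lm hψ) ?_ rfl
      rw [Lc (add_mem hφ hφ'), P.coo_mul hx hf he (Lm hφ) (Lm hφ'), Lc hφ, Lc hφ']
    simp only [hh, hf', key hψ, key (W.smul_mem om hψ)]
    ring
  have gen : ∀ {φ t a}, φ ∈ W → t ∈ T D x f → h φ (coo D x f e (tw D x e t a)) = φ t * a ^ 2 := by
    intro φ t a hφ ht
    have e1 : om • coo D x f e (tw D x e t a) = coo D x f e (tw D x e t (om * a)) := by
      rw [hlin t ht a, hlin t ht (om * a), smul_smul]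
    have key : ∀ b, beta (lif D x f e φ) (lif D x f e (coo D x f e (tw D x e t b))) = dd (φ t) b := by
      intro b
      have hm : coo D x f e (tw D x e t b) ∈ W := ⟨_, P.tw_mem hx hf he ht b, rfl⟩
      rw [P.beta_congr hx hf he (Lm hφ) (Lm hφ) (Lm hm) (P.tw_mem hx hf he ht b) rfl (Lc hm),
        P.beta_tw hx hf he (Lm hφ) ht, Lc hφ]
    simp only [hh, hf', e1, key]
    have : ∀ p a : Fq, om * dd p a + dd p (om * a) = p * a ^ 2 := by decide
    exact this _ _
  have zR : ∀ {φ}, φ ∈ W → h φ 0 = 0 := fun {φ} hφ => by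
    have := addR hφ W.zero_mem W.zero_mem
    rw [add_zero, fq_add_self] at this
    exact this
  have zL : ∀ {φ}, φ ∈ W → h 0 φ = 0 := fun {φ} hφ => by
    have := addL W.zero_mem W.zero_mem hφ
    rw [add_zero, fq_add_self] at this
    exact this
  have smulL : ∀ (c : Fq) {φ ψ}, φ ∈ W → ψ ∈ W → h (c • φ) ψ = c * h φ ψ := by
    intro c φ ψ hφ hψ
    refine P.coo_induction hx hf he (p := fun ψ => h (c • φ) ψ = c * h φ ψ) ?_ ?_ ?_ hψ
    · rw [zR (W.smul_mem c hφ), zR hφ, mul_zero]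
    · intro t ht a
      rw [gen (W.smul_mem c hφ) ht, gen hφ ht, Pi.smul_apply, smul_eq_mul, mul_assoc]
    · intro ψ ψ' hψ hψ' i1 i2
      rw [addR (W.smul_mem c hφ) hψ hψ', addR hφ hψ hψ', i1, i2, mul_add]
  have hsym : ∀ {φ ψ}, φ ∈ W → ψ ∈ W → h ψ φ = h φ ψ ^ 2 := by
    intro φ ψ hφ hψ
    have sq_add : ∀ p q : Fq, (p + q) ^ 2 = p ^ 2 + q ^ 2 := by decide
    refine P.coo_induction hx hf he (p := fun ψ => ∀ φ, φ ∈ W → h ψ φ = h φ ψ ^ 2) ?_ ?_ ?_ hψ φ hφ
    · intro φ hφ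
      rw [zR hφ, zL hφ]; rfl
    · intro t ht a φ hφ
      have hm : ∀ {t b}, t ∈ T D x f → coo D x f e (tw D x e t b) ∈ W :=
        fun {t b} ht => ⟨_, P.tw_mem hx hf he ht b, rfl⟩
      refine P.coo_induction hx hf he (p := fun φ => h (coo D x f e (tw D x e t a)) φ =
        h φ (coo D x f e (tw D x e t a)) ^ 2) ?_ ?_ ?_ hφ
      · rw [zR (hm ht), zL (hm ht)]; rfl
      · intro s hs b
        rw [gen (hm ht) hs, gen (hm hs) ht, hlin t ht a, hlin s hs b, Pi.smul_apply, Pi.smul_apply,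
          smul_eq_mul, smul_eq_mul]
        have key : ∀ p q a b : Fq, (∀ a b : Fq, dd (a * p) b = dd (b * q) a) →
            a * p * b ^ 2 = (b * q * a ^ 2) ^ 2 := by decide +kernel
        refine key _ _ _ _ fun a b => ?_
        have h2 := P.M_symm hx hf he ht hs a b
        rwa [hlin t ht a, hlin s hs b, Pi.smul_apply, Pi.smul_apply, smul_eq_mul, smul_eq_mul] at h2
      · intro φ φ' hφ hφ' i1 i2
        rw [addR (hm ht) hφ hφ', addL hφ hφ' (hm ht), i1, i2, sq_add]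
    · intro ψ ψ' hψ hψ' i1 i2 φ hφ
      rw [addL hψ hψ' hφ, addR hφ hψ hψ', i1 φ hφ, i2 φ hφ, sq_add]
  have smulR : ∀ (c : Fq) {φ ψ}, φ ∈ W → ψ ∈ W → h φ (c • ψ) = c ^ 2 * h φ ψ := by
    intro c φ ψ hφ hψ
    rw [hsym (W.smul_mem c hψ) hφ, smulL c hψ hφ, hsym hφ hψ]
    have : ∀ c p : Fq, (c * p ^ 2) ^ 2 = c ^ 2 * p := by decide
    exact this _ _
  have nondeg : ∀ {φ}, φ ∈ W → (∀ ψ ∈ W, h φ ψ = 0) → φ = 0 := by
    intro φ hφ h0
    funext t
    by_cases ht : t ∈ T D x f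
    · have := h0 (coo D x f e (tw D x e t 1)) ⟨_, P.tw_mem hx hf he ht 1, rfl⟩
      rwa [gen hφ ht, one_pow, mul_one] at this
    · obtain ⟨u, -, rfl⟩ := hW.1 hφ
      exact coo_off ht
  have hsum : ∀ {ι : Type} (s : Finset ι) (g : ι → G → Fq) {ψ}, (∀ i, g i ∈ W) → ψ ∈ W →
      h (∑ i ∈ s, g i) ψ = ∑ i ∈ s, h (g i) ψ := by
    intro ι s g ψ hg hψ
    induction s using Finset.induction_on with
    | empty => simpa using zL hψ
    | insert i s hi ih =>
      rw [Finset.sum_insert hi, Finset.sum_insert hi, addL (hg i) (Submodule.sum_mem _ fun j _ => hg j) hψ, ih]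
  -- an orthonormal family of greatest size
  let IsON : ℕ → Prop := fun k => ∃ ε : Fin k → G → Fq, (∀ i, ε i ∈ W) ∧
    ∀ i j, h (ε i) (ε j) = if i = j then 1 else 0
  have : Finite W := inferInstance
  have hbound : ∀ k, IsON k → k ≤ Nat.card W := fun k ⟨ε, hε, hon⟩ => by
    rw [← Nat.card_fin k]
    refine Nat.card_le_card_of_injective (fun i => (⟨ε i, hε i⟩ : W)) fun i j hij => ?_
    by_contra hne
    have h1 := hon i j
    rw [if_neg hne, ← show ε i = ε j from congrArg Subtype.val hij, hon i i, if_pos rfl] at h1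
    exact one_ne_zero h1
  obtain ⟨m, ⟨ε, hε, hon⟩, hmax⟩ : ∃ m, IsON m ∧ ¬ IsON (m + 1) := by
    by_contra hall
    push Not at hall
    have hk : ∀ k, IsON k := fun k => Nat.rec
      ⟨fun i => i.elim0, fun i => i.elim0, fun i => i.elim0⟩ (fun k ih => hall k ih) k
    exact absurd (hbound _ (hk (Nat.card W + 1))) (by omega)
  let L : (G → Fq) → Fin m → Fq := fun φ i => h φ (ε i)
  have hcomb : ∀ a : Fin m → Fq, (∑ i, a i • ε i) ∈ W :=
    fun a => Submodule.sum_mem _ fun i _ => W.smul_mem _ (hε i)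
  have hLc : ∀ (a : Fin m → Fq) j, h (∑ i, a i • ε i) (ε j) = a j := by
    intro a j
    rw [hsum _ _ (fun i => W.smul_mem _ (hε i)) (hε j),
      Finset.sum_congr rfl fun i _ => show h (a i • ε i) (ε j) = if i = j then a i else 0 by
        rw [smulL _ (hε i) (hε j), hon]; split_ifs <;> simp]
    simp
  have hexp : ∀ {φ}, φ ∈ W → φ = ∑ i, L φ i • ε i := by
    intro φ hφ
    let R : (G → Fq) → Prop := fun r => r ∈ W ∧ ∀ j, h r (ε j) = 0
    have iso : ∀ {r}, R r → h r r = 0 := by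
      intro r ⟨hr, hr0⟩
      by_contra hne
      have h1 : h r r = 1 := by
        have e2 := hsym hr hr
        have : ∀ p : Fq, p = p ^ 2 → p ≠ 0 → p = 1 := by decide
        exact this _ e2 hne
      refine hmax ⟨Fin.snoc ε r, fun i => ?_, fun i j => ?_⟩
      · refine Fin.lastCases ?_ (fun i => ?_) i
        · rw [Fin.snoc_last]; exact hr
        · rw [Fin.snoc_castSucc]; exact hε i
      · refine Fin.lastCases ?_ (fun i => ?_) i <;> refine Fin.lastCases ?_ (fun j => ?_) j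
        · simpa using h1
        · simpa [(Fin.castSucc_ne_last j).symm] using hr0 j
        · simp only [Fin.snoc_castSucc, Fin.snoc_last, if_neg (Fin.castSucc_ne_last i)]
          rw [hsym hr (hε i), hr0 i]; rfl
        · simpa [Fin.castSucc_inj] using hon i j
    have zero : ∀ {r}, R r → r = 0 := by
      intro r hr
      refine nondeg hr.1 fun ψ hψ => ?_
      set s := ψ + ∑ i, L ψ i • ε i with hs
      have hsW : s ∈ W := add_mem hψ (hcomb _)
      have hsR : R s := ⟨hsW, fun j => by rw [hs, addL hψ (hcomb _) (hε j), hLc]; exact fq_add_self _⟩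
      have h1 : h r (∑ i, L ψ i • ε i) = 0 := by
        rw [hsym (hcomb _) hr.1, hsum _ _ (fun i => W.smul_mem _ (hε i)) hr.1,
          Finset.sum_eq_zero fun i _ => ?_]
        · rfl
        · rw [smulL _ (hε i) hr.1, hsym hr.1 (hε i), hr.2 i]; exact mul_zero _
      have hrs : ∀ c : Fq, c * h r s + c ^ 2 * h r s ^ 2 = 0 := fun c => by
        have hR' : R (c • r + s) := ⟨add_mem (W.smul_mem c hr.1) hsW, fun j => by
          rw [addL (W.smul_mem c hr.1) hsW (hε j), smulL c hr.1 (hε j), hr.2 j, hsR.2 j, mul_zero,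
            add_zero]⟩
        have h2 := iso hR'
        rw [addL (W.smul_mem c hr.1) hsW hR'.1, addR (W.smul_mem c hr.1) (W.smul_mem c hr.1) hsW,
          addR hsW (W.smul_mem c hr.1) hsW, smulL c hr.1 (W.smul_mem c hr.1), smulR c hr.1 hr.1,
          iso hr, iso hsR, smulL c hr.1 hsW, smulR c hsW hr.1, hsym hr.1 hsW] at h2
        simpa using h2
      have hkey : ∀ p : Fq, (∀ c : Fq, c * p + c ^ 2 * p ^ 2 = 0) → p = 0 := by decide
      have h3 := hkey _ hrs
      rw [hs, addR hr.1 hψ (hcomb _), h1, add_zero] at h3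
      exact h3
    have hr := zero (r := φ + ∑ i, L φ i • ε i) ⟨add_mem hφ (hcomb _), fun j => by
      rw [addL hφ (hcomb _) (hε j), hLc]; exact fq_add_self _⟩
    funext t
    exact fq_eq_of_add _ _ (congrFun hr t)
  have hform : ∀ {φ ψ}, φ ∈ W → ψ ∈ W → h φ ψ = hermForm m Fq 2 (L φ) (L ψ) := by
    intro φ ψ hφ hψ
    conv_lhs => rw [hexp hφ]
    rw [hsum _ _ (fun i => W.smul_mem _ (hε i)) hψ]
    refine Finset.sum_congr rfl fun i _ => ?_
    rw [smulL _ (hε i) hψ, hsym hψ (hε i)]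
  let w : G → Fin m → Fq := fun u => L (coo D x f e u)
  have hm : ∀ {u}, u ∈ Tw D x → coo D x f e u ∈ W := fun hu => ⟨_, hu, rfl⟩
  have hw : ∀ {u v}, u ∈ Tw D x → v ∈ Tw D x →
      hermForm m Fq 2 (w u) (w v) = h (coo D x f e u) (coo D x f e v) :=
    fun hu hv => (hform (hm hu) (hm hv)).symm
  have htr : ∀ u ∈ Tw D x, ∀ v ∈ Tw D x,
      hermForm m Fq 2 (w u) (w v) + hermForm m Fq 2 (w u) (w v) ^ 2 = beta u v := by
    intro u hu v hv
    rw [hw hu hv]
    simp only [hh, hf']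
    rw [P.beta_congr hx hf he (Lm (hm hu)) hu (Lm (hm hv)) hv (Lc (hm hu)) (Lc (hm hv))]
    have key : ∀ p q : Fq, (p = 0 ∨ p = 1) → (q = 0 ∨ q = 1) → om * p + q + (om * p + q) ^ 2 = p := by
      decide
    have h01 : ∀ a b : G, beta a b = 0 ∨ beta a b = 1 := fun a b => by
      unfold beta; split_ifs <;> simp
    exact key _ _ (h01 _ _) (h01 _ _)
  refine ⟨m, w, he, ?_, ?_, ?_, ?_, ?_, ?_, ?_, ?_⟩
  · by_contra hlt
    obtain ⟨a, ha⟩ := P.nb_nonempty hx
    obtain ⟨t, ht, -, -⟩ := P.exists_T hx hf ha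
    obtain ⟨s, hs, hts⟩ : ∃ s ∈ T D x f, ¬ Commute t s := by
      by_contra h
      push Not at h
      exact P.T_nondeg hx hf ht.1 h
    have hmt := hm (P.tw_mem hx hf he ht 1)
    have h0 : coo D x f e (tw D x e t 1) ≠ 0 := fun h => hts
      (((P.M_eq_zero_iff hx hf he ht hs).1 (congrFun h s)).resolve_left one_ne_zero)
    have h1 : h (coo D x f e (tw D x e t 1)) (coo D x f e (tw D x e t 1)) = 0 := by
      rw [gen hmt ht, (P.M_eq_zero_iff hx hf he ht ht).2 (Or.inr (Commute.refl t)), zero_mul]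
    refine h0 ?_
    rw [hexp hmt]
    rw [hform hmt hmt] at h1
    interval_cases m
    · simp
    · have h2 : ∀ p : Fq, p * p ^ 2 = 0 → p = 0 := by decide
      simp only [hermForm, Fin.sum_univ_one] at h1
      simp [h2 _ h1]
  · intro u hu v hv
    funext i
    show h (coo D x f e (u * v)) (ε i) = _
    rw [P.coo_mul hx hf he hu hv, addL (hm hu) (hm hv) (hε i)]
    rfl
  · funext i
    show h (coo D x f e x) (ε i) = 0
    rw [P.coo_x hx hf he, zL (hε i)]
  · intro u hu h0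
    have : coo D x f e u = coo D x f e 1 := by
      rw [P.coo_one hx hf he, hexp (hm hu), show L (coo D x f e u) = 0 from h0]; simp
    rcases P.coo_eq hx hf he (one_mem _) hu this.symm with h | h
    · exact Or.inl h
    · exact Or.inr (h.trans (one_mul x))
  · intro a
    obtain ⟨u, hu, hue⟩ := hW.1 (hcomb a)
    exact ⟨u, hu, funext fun j => by show h (coo D x f e u) (ε j) = _; rw [hue, hLc]⟩
  · intro u hu v hv
    rw [htr u hu v hv]
    unfold beta
    split_ifs with hc <;> simp [hc]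
  · intro u hu t ht a
    rw [hw hu (P.tw_mem hx hf he ht a), gen (hm hu) ht]
  · intro t ht a
    funext i
    show h (coo D x f e (tw D x e t a)) (ε i) = a * h (coo D x f e (tw D x e t 1)) (ε i)
    rw [hlin t ht a, smulL _ (hm (P.tw_mem hx hf he ht 1)) (hε i)]

end Five

end Cfsg.Agent.H80.TTPolar
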