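import Cfsg.Agent.H80.TTQuad.Trace

/-!
Classes of 3-transpositions in which the double perpendicular of a commuting pair has a third
member: these double perpendiculars are the lines of a polar space with three or five points on
each line.
-/

set_option autoImplicit false
set_option linter.unusedSectionVars false

namespace Cfsg.Agent.H80.TTPolar

open Cfsg
open H76.LocallyS3 (nb cj cj_cj cj_injective commute_cj_iff)
open H80.TTQuad (Cls B OnLine T far cjOrb cj_one cj_inv_cj cj_cj_inv cj_eq_of_commute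
  commute_of_cj_eq nb_symm cj_mul_self even_ncard_of_involution mem_T_of_commute
  commute_of_mem_closure_nb far_symm)

universe u

variable {G : Type u} [Group G] {D : Set G}

/-- The line through two commuting members. -/
def Ln (D : Set G) (p q : G) : Set G := {r : G | OnLine D p q r}

/-- Every line has a third point. -/
structure Polar (D : Set G) : Prop extends Cls D where
  thick : ∀ p ∈ D, ∀ q ∈ nb D p, ∃ r, OnLine D p q r ∧ r ≠ p ∧ r ≠ q

namespace Polar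

variable [Finite G] (P : Polar D)
include P

theorem left_mem {p q : G} (hp : p ∈ D) : p ∈ Ln D p q := P.onLine_left hp

theorem right_mem {p q : G} (hq : q ∈ nb D p) : q ∈ Ln D p q := P.onLine_right hq

theorem mem_B {p q r : G} (hp : p ∈ D) (hq : q ∈ nb D p) (hr : r ∈ Ln D p q) : r ∈ B D p q :=
  ⟨hr.1, hr.2 p (P.left_mem_B hp hq), hr.2 q (P.right_mem_B hq)⟩

theorem mem_nb {p q r : G} (hp : p ∈ D) (hq : q ∈ nb D p) (hr : r ∈ Ln D p q) (h : r ≠ p) :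
    r ∈ nb D p :=
  ⟨hr.1, h, (P.mem_B hp hq hr).2.1.symm⟩

theorem clique {p q r r' : G} (hp : p ∈ D) (hq : q ∈ nb D p) (hr : r ∈ Ln D p q)
    (hr' : r' ∈ Ln D p q) : Commute r r' :=
  hr.2 r' (P.mem_B hp hq hr')

/-- Two points of a line determine it. -/
theorem B_pair {p q r r' : G} (hp : p ∈ D) (hq : q ∈ nb D p) (hr : r ∈ Ln D p q)
    (hr' : r' ∈ Ln D p q) (hne : r ≠ r') : B D r r' = B D p q := by
  refine (Set.eq_of_subset_of_ncard_le (s := B D p q) (t := B D r r')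
    (fun d hd => ⟨hd.1, (hr.2 d hd).symm, (hr'.2 d hd).symm⟩) ?_ (Set.toFinite _)).symm
  exact (P.ncard_B hp hq hr.1 ⟨hr'.1, hne.symm, P.clique hp hq hr hr'⟩).ge

theorem Ln_pair {p q r r' : G} (hp : p ∈ D) (hq : q ∈ nb D p) (hr : r ∈ Ln D p q)
    (hr' : r' ∈ Ln D p q) (hne : r ≠ r') : Ln D r r' = Ln D p q := by
  unfold Ln OnLine
  rw [P.B_pair hp hq hr hr' hne]

theorem Ln_eq {p q r : G} (hp : p ∈ D) (hq : q ∈ nb D p) (hr : r ∈ Ln D p q) (hne : r ≠ p) :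
    Ln D p r = Ln D p q := P.Ln_pair hp hq (P.left_mem hp) hr hne.symm

theorem Ln_comm (p q : G) : Ln D p q = Ln D q p := by
  unfold Ln OnLine
  rw [H80.TTQuad.B_comm]

/-- A member commuting with two points of a line commutes with all of them. -/
theorem commute_all {p q r r' e d : G} (hp : p ∈ D) (hq : q ∈ nb D p) (hr : r ∈ Ln D p q)
    (hr' : r' ∈ Ln D p q) (hne : r ≠ r') (hd : d ∈ D) (h : Commute d r) (h' : Commute d r')
    (he : e ∈ Ln D p q) : Commute d e :=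
  (he.2 d (P.B_pair hp hq hr hr' hne ▸ (⟨hd, h, h'⟩ : d ∈ B D r r'))).symm

theorem cj_Ln (g p q : G) : Ln D (cj g p) (cj g q) = cj g '' Ln D p q := by
  refine Set.Subset.antisymm (fun d hd => ⟨cj g⁻¹ d, ?_, cj_cj_inv g d⟩) ?_
  · exact (P.onLine_cj g).1 (by rw [cj_cj_inv]; exact hd)
  · rintro _ ⟨d, hd, rfl⟩
    exact (P.onLine_cj g).2 hd

theorem ncard_Ln {p q p' q' : G} (hp : p ∈ D) (hq : q ∈ nb D p) (hp' : p' ∈ D)
    (hq' : q' ∈ nb D p') : (Ln D p q).ncard = (Ln D p' q').ncard := by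
  obtain ⟨g, rfl, rfl⟩ := P.exists_cj_pair hp hq hp' hq'
  rw [P.cj_Ln, Set.ncard_image_of_injective _ (cj_injective g)]

theorem exists_noncommute_nb' {x a : G} (hx : x ∈ D) (ha : a ∈ nb D x) :
    ∃ c ∈ nb D x, ¬ Commute a c := P.exists_noncommute_nb hx ha

/-- Two points `b, b'` of a line through `x` move every other line through `x` into itself. -/
theorem pair_move {x a b b' : G} (hx : x ∈ D) (ha : a ∈ nb D x) (hb : b ∈ nb D x)
    (hb' : b' ∈ Ln D x b) (hb'x : b' ≠ x) (hab : ¬ Commute a b) :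
    cj (b * b') a ∈ nb D x ∧ cj (b * b') a ∈ Ln D x a ∧ (cj (b * b') a = a → b = b') := by
  have hb'n := P.mem_nb hx hb hb' hb'x
  have hab' : ¬ Commute a b' := fun h => hab
    (P.commute_all hx hb (P.left_mem hx) hb' hb'x.symm ha.1 ha.2.2.symm h (P.right_mem hb))
  have hbx : Commute (b * b') x := hb.2.2.symm.mul_left hb'n.2.2.symm
  have hc1 : cj a b' ∈ Ln D x (cj a b) := by
    have h := (P.onLine_cj a).2 (hb' : OnLine D x b b')
    rwa [cj_eq_of_commute ha.2.2.symm] at h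
  have hn1 : cj a b ∈ nb D x := P.cj_mem_nb ha.2.2.symm hb
  have heq : Ln D x (cj a b') = Ln D x (cj a b) :=
    P.Ln_eq hx hn1 hc1 (P.cj_mem_nb ha.2.2.symm hb'n).2.1
  refine ⟨P.cj_mem_nb hbx ha, ?_, fun h => ?_⟩
  · have h1 : cj b' a ∈ Ln D x (cj b a) := by
      rw [← P.braid ha.1 hb.1 hab, ← P.braid ha.1 hb'n.1 hab', ← heq]
      exact P.right_mem (P.cj_mem_nb ha.2.2.symm hb'n)
    have h2 := (P.onLine_cj b).2 (h1 : OnLine D x (cj b a) (cj b' a))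
    rw [cj_eq_of_commute hb.2.2.symm, P.cj_invol hb.1, cj_cj] at h2
    exact h2
  · rw [← cj_cj] at h
    have h1 : cj b' a = cj b a := by
      calc cj b' a = cj b (cj b (cj b' a)) := (P.cj_invol hb.1 _).symm
        _ = cj b a := by rw [h]
    rw [← P.braid ha.1 hb'n.1 hab', ← P.braid ha.1 hb.1 hab] at h1
    exact (cj_injective a h1).symm

theorem pair_mul_self {b b' : G} (hb : b ∈ D) (hb' : b' ∈ D) (h : Commute b b') :
    b * b' * (b * b') = 1 := by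
  rw [mul_assoc, ← mul_assoc b', ← h.eq, mul_assoc b, P.sq hb', mul_one, P.sq hb]

theorem odd_ncard_Ln {p q : G} (hp : p ∈ D) (hq : q ∈ nb D p) : Odd (Ln D p q).ncard := by
  obtain ⟨b, hb, hqb⟩ := P.exists_noncommute_nb hp hq
  obtain ⟨b', hb', hb'p, hb'b⟩ := P.thick p hp b hb
  have hb'n := P.mem_nb hp hb hb' hb'p
  have hbb : Commute b b' := P.clique hp hb (P.right_mem hb) hb'
  have hab : ∀ a ∈ Ln D p q, a ≠ p → ¬ Commute a b := fun a ha hap h => hqb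
    (P.commute_all hp hq (P.left_mem hp) ha hap.symm hb.1 hb.2.2.symm h.symm (P.right_mem hq)).symm
  have hev : Even (Ln D p q \ {p}).ncard := by
    refine even_ncard_of_involution (Set.toFinite _) (cj (b * b')) ?_ ?_ ?_
    · rintro a ⟨ha, hap⟩
      have han := P.mem_nb hp hq ha hap
      obtain ⟨h1, h2, -⟩ := P.pair_move hp han hb hb' hb'p (hab a ha hap)
      exact ⟨P.Ln_eq hp hq ha hap ▸ h2, h1.2.1⟩
    · rintro a ⟨ha, hap⟩ h
      have han := P.mem_nb hp hq ha hap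
      exact hb'b ((P.pair_move hp han hb hb' hb'p (hab a ha hap)).2.2 h).symm
    · exact fun a _ => cj_mul_self (P.pair_mul_self hb.1 hb'n.1 hbb) a
  rw [← Set.ncard_sdiff_singleton_add_one (P.left_mem (q := q) hp) (Set.toFinite _)]
  exact hev.add_one

/-- Every point is collinear with some point of a given line. -/
theorem exists_trace {p q f : G} (hp : p ∈ D) (hq : q ∈ nb D p) (hf : f ∈ D) :
    ∃ r ∈ Ln D p q, Commute f r := by
  by_contra hno
  push Not at hno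
  have hfp := hno p (P.left_mem hp)
  have hfq := hno q (P.right_mem hq)
  have hzz := P.pair_mul_self hp hq.1 hq.2.2
  set w := f * (p * q) * f with hw
  have hww : w * w = 1 := by
    rw [hw, show f * (p * q) * f * (f * (p * q) * f) = f * (p * q) * (f * f) * (p * q) * f by group,
      P.sq hf, mul_one, mul_assoc f (p * q) (p * q), hzz, mul_one, P.sq hf]
  have hwp : cj w p = q := by
    rw [hw, ← cj_cj, ← cj_cj, ← cj_cj, P.braid hf hp hfp,
      (show cj p (cj q (cj p f)) = cj q (cj p (cj p f)) by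
        rw [cj_cj p q, hq.2.2.eq, ← cj_cj q p]),
      P.cj_invol hp, ← P.braid hf hq.1 hfq, P.cj_invol hf]
  have hwq : cj w q = p := by rw [← hwp, cj_mul_self hww]
  have hev : Even (Ln D p q \ {p, q}).ncard := by
    refine even_ncard_of_involution (Set.toFinite _) (cj w) ?_ ?_ (fun a _ => cj_mul_self hww a)
    · rintro a ⟨ha, hap⟩
      have h : cj w a ∈ Ln D (cj w p) (cj w q) := (P.onLine_cj w).2 ha
      rw [hwp, hwq, P.Ln_comm] at h
      simp only [Set.mem_insert_iff, Set.mem_singleton_iff, not_or] at hap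
      refine ⟨h, ?_⟩
      simp only [Set.mem_insert_iff, Set.mem_singleton_iff, not_or]
      exact ⟨fun e => hap.2 (cj_injective w (e.trans hwq.symm)),
        fun e => hap.1 (cj_injective w (e.trans hwp.symm))⟩
    · rintro a ⟨ha, -⟩ he
      have hfa := hno a ha
      have h1 : cj (p * q) (cj f a) = cj f a := by
        conv_rhs => rw [← he, hw, ← cj_cj, ← cj_cj, P.cj_invol hf]
      rw [P.braid hf ha.1 hfa] at h1
      have haB := P.mem_B hp hq ha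
      have h2 : Commute (p * q) a := haB.2.1.symm.mul_left haB.2.2.symm
      have h3 : cj (p * q) (cj a f) = cj a (cj (p * q) f) := by rw [cj_cj, cj_cj, h2.eq]
      rw [h3] at h1
      have h4 := cj_injective a h1
      rw [← cj_cj] at h4
      have h5 : cj q f = cj p f := by
        calc cj q f = cj p (cj p (cj q f)) := (P.cj_invol hp _).symm
          _ = cj p f := by rw [h4]
      rw [← P.braid hf hp hfp, ← P.braid hf hq.1 hfq] at h5
      exact hq.2.1 (cj_injective f h5)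
  have hsub : ({p, q} : Set G) ⊆ Ln D p q := by
    rintro d (rfl | rfl)
    exacts [P.left_mem hp, P.right_mem hq]
  have hodd := P.odd_ncard_Ln hp hq
  rw [← Set.ncard_sdiff_add_ncard_of_subset hsub (Set.toFinite _), Set.ncard_pair hq.2.1.symm]
    at hodd
  exact Nat.not_even_iff_odd.2 hodd (hev.add even_two)

/-- The point of `T x f` on the line through `x` and a member commuting with `x`. -/
theorem exists_T {x f a : G} (hx : x ∈ D) (hf : f ∈ far D x) (ha : a ∈ nb D x) :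
    ∃ t ∈ T D x f, a ∈ Ln D x t ∧ t ∈ Ln D x a := by
  obtain ⟨r, hr, hfr⟩ := P.exists_trace hx ha hf.1
  have hrx : r ≠ x := fun e => hf.2 (e ▸ hfr).symm
  exact ⟨r, mem_T_of_commute hf.2 hr.1 (P.mem_nb hx ha hr hrx).2.2 hfr,
    P.Ln_eq hx ha hr hrx ▸ P.right_mem ha, hr⟩

theorem T_unique {x f a t t' : G} (hx : x ∈ D) (hf : f ∈ far D x) (ha : a ∈ nb D x)
    (ht : t ∈ T D x f) (ht' : t' ∈ T D x f) (h : t ∈ Ln D x a) (h' : t' ∈ Ln D x a) : t = t' :=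
  by_contra fun hne => hf.2
    (P.commute_all hx ha h h' hne hf.1 ht.2.2.2 ht'.2.2.2 (P.left_mem hx)).symm

theorem T_cj {x f t t' : G} (ht : t ∈ T D x f) (ht' : t' ∈ T D x f) : cj t t' ∈ T D x f :=
  ⟨P.cj_mem_nb ht.1.2.2.symm ht'.1, P.cj_mem_nb ht.2.2.2.symm ht'.2⟩

theorem ncard_nb_mul {x f : G} {s : ℕ}
    (hs : ∀ p ∈ D, ∀ q ∈ nb D p, (Ln D p q).ncard = s + 1) (hx : x ∈ D) (hf : f ∈ far D x) :
    (nb D x).ncard = (T D x f).ncard * s := by
  classical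
  have h1 : (Set.toFinite (nb D x)).toFinset = (Set.toFinite (T D x f)).toFinset.biUnion
      fun t => (Set.toFinite (Ln D x t \ {x})).toFinset := by
    ext a
    simp only [Set.Finite.mem_toFinset, Finset.mem_biUnion, Set.mem_sdiff, Set.mem_singleton_iff]
    constructor
    · intro ha
      obtain ⟨t, ht, hat, -⟩ := P.exists_T hx hf ha
      exact ⟨t, ht, hat, ha.2.1⟩
    · rintro ⟨t, ht, hat, hax⟩
      exact P.mem_nb hx ht.1 hat hax
  rw [Set.ncard_eq_toFinset_card (nb D x), h1, Finset.card_biUnion ?_,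
    Set.ncard_eq_toFinset_card (T D x f)]
  · rw [Finset.sum_const_nat (m := s) fun t ht => ?_]
    rw [Set.Finite.mem_toFinset] at ht
    rw [← Set.ncard_eq_toFinset_card, Set.ncard_sdiff_singleton_of_mem (P.left_mem hx),
      hs x hx t ht.1, Nat.add_sub_cancel]
  · intro t ht t' ht' hne
    rw [Finset.mem_coe, Set.Finite.mem_toFinset] at ht ht'
    rw [Function.onFun, Finset.disjoint_left]
    intro a ha ha'
    rw [Set.Finite.mem_toFinset] at ha ha'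
    have han := P.mem_nb hx ht.1 ha.1 ha.2
    refine hne (P.T_unique hx hf han ht ht' ?_ ?_)
    · rw [P.Ln_eq hx ht.1 ha.1 ha.2]; exact P.right_mem ht.1
    · rw [P.Ln_eq hx ht'.1 ha'.1 ha'.2]; exact P.right_mem ht'.1

theorem ncard_nb_eq {x y : G} (hx : x ∈ D) (hy : y ∈ D) : (nb D x).ncard = (nb D y).ncard := by
  have key : ∀ {x y : G}, x ∈ D → y ∈ D → (nb D x).ncard ≤ (nb D y).ncard := by
    intro x y hx hy
    obtain ⟨g, rfl⟩ := P.exists_cj hx hy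
    exact Set.ncard_le_ncard_of_injOn (cj g) (fun a ha => P.cj_nb g ha) (cj_injective g).injOn
      (Set.toFinite _)
  exact le_antisymm (key hx hy) (key hy hx)

theorem ncard_T_eq {x f x' f' : G} (hx : x ∈ D) (hf : f ∈ far D x) (hx' : x' ∈ D)
    (hf' : f' ∈ far D x') : (T D x f).ncard = (T D x' f').ncard := by
  obtain ⟨a, ha⟩ := P.nb_nonempty hx
  obtain ⟨s, hs⟩ : ∃ s, (Ln D x a).ncard = s + 1 := ⟨(Ln D x a).ncard - 1, by
    have := (Set.ncard_pos (Set.toFinite _)).2 ⟨a, (P.right_mem ha : a ∈ Ln D x a)⟩; omega⟩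
  have hline : ∀ p ∈ D, ∀ q ∈ nb D p, (Ln D p q).ncard = s + 1 :=
    fun p hp q hq => (P.ncard_Ln hp hq hx ha).trans hs
  have h := P.ncard_nb_eq hx hx'
  rw [P.ncard_nb_mul hline hx hf, P.ncard_nb_mul hline hx' hf'] at h
  refine Nat.eq_of_mul_eq_mul_right ?_ h
  obtain ⟨r, hr, hrx, hra⟩ := P.thick x hx a ha
  have h2 : 1 < (Ln D x a).ncard :=
    (Set.one_lt_ncard (Set.toFinite _)).2 ⟨x, P.left_mem hx, a, P.right_mem ha, ha.2.1.symm⟩
  omega

/-- A member of `T x f` collinear with all of it is not there. -/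
theorem T_nondeg {x f z : G} (hx : x ∈ D) (hf : f ∈ far D x) (hz : z ∈ nb D x)
    (h : ∀ t ∈ T D x f, Commute z t) : False := by
  refine hz.2.1 (P.eq_of_commute_subset hx hz.1 fun w hw hxw => ?_).symm
  by_cases e : w = x
  · exact e ▸ hz.2.2.symm
  obtain ⟨t, ht, hwt, -⟩ := P.exists_T hx hf ⟨hw, e, hxw⟩
  exact P.commute_all hx ht.1 (P.left_mem hx) (P.right_mem ht.1) ht.1.2.1.symm hz.1 hz.2.2.symm
    (h t ht) hwt

theorem exists_translate {x a a' b₀ : G} (hx : x ∈ D) (ha : a ∈ nb D x) (hb₀ : b₀ ∈ nb D x)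
    (ha' : a' ∈ Ln D x a) (ha'x : a' ≠ x) (hab : ¬ Commute a b₀) :
    ∃ c ∈ Ln D x b₀, c ≠ x ∧ cj (c * b₀) a = a' := by
  have hnac : ∀ c ∈ Ln D x b₀, c ≠ x → ¬ Commute a c := fun c hc hcx h => hab
    (P.commute_all hx hb₀ (P.left_mem hx) hc hcx.symm ha.1 ha.2.2.symm h (P.right_mem hb₀))
  have hback : ∀ c ∈ Ln D x b₀, c ≠ x → b₀ ∈ Ln D x c := fun c hc hcx =>
    P.Ln_eq hx hb₀ hc hcx ▸ P.right_mem hb₀
  have hmaps : ∀ c ∈ Ln D x b₀ \ {x}, cj (c * b₀) a ∈ Ln D x a \ {x} := by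
    rintro c ⟨hc, hcx⟩
    obtain ⟨h1, h2, -⟩ := P.pair_move hx ha (P.mem_nb hx hb₀ hc hcx) (hback c hc hcx) hb₀.2.1
      (hnac c hc hcx)
    exact ⟨h2, h1.2.1⟩
  have hinj : Set.InjOn (fun c => cj (c * b₀) a) (Ln D x b₀ \ {x}) := by
    rintro c ⟨hc, hcx⟩ c' ⟨hc', hcx'⟩ he
    have hcn := P.mem_nb hx hb₀ hc hcx
    refine (P.pair_move hx ha hcn (b' := c') (P.Ln_eq hx hb₀ hc hcx ▸ hc') hcx'
      (hnac c hc hcx)).2.2 ?_
    simp only at he
    have h1 : c * c' = (c' * b₀) * (c * b₀) := by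
      rw [mul_assoc, ← mul_assoc b₀, ← (P.mem_B hx hb₀ hc).2.2.eq, mul_assoc c, P.sq hb₀.1, mul_one,
        (P.clique hx hb₀ hc hc').eq]
    rw [h1, ← cj_cj, he, cj_mul_self (P.pair_mul_self hc'.1 hb₀.1 (P.mem_B hx hb₀ hc').2.2)]
  have hcard : (Ln D x a \ {x}).ncard ≤ (Ln D x b₀ \ {x}).ncard := by
    rw [Set.ncard_sdiff_singleton_of_mem (P.left_mem hx),
      Set.ncard_sdiff_singleton_of_mem (P.left_mem hx), P.ncard_Ln hx ha hx hb₀]
  obtain ⟨c, hc, hce⟩ := Set.surj_on_of_inj_on_of_ncard_le (s := Ln D x b₀ \ {x})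
    (t := Ln D x a \ {x}) (fun c _ => cj (c * b₀) a) hmaps (fun _ _ hc hc' he => hinj hc hc' he)
    hcard (Set.toFinite _) a' ⟨ha', ha'x⟩
  exact ⟨c, hc.1, hc.2, hce.symm⟩

/-- For two translations along a line their product is a third. -/
theorem exists_four {x a b b' b₀ : G} (hx : x ∈ D) (ha : a ∈ nb D x) (hb₀ : b₀ ∈ nb D x)
    (hb : b ∈ Ln D x b₀) (hb' : b' ∈ Ln D x b₀) (hbx : b ≠ x) (hb'x : b' ≠ x)
    (hab : ¬ Commute a b₀) (hne : b ≠ b') (hne₀ : b ≠ b₀) (hne₀' : b' ≠ b₀) :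
    ∃ d ∈ Ln D x b₀, d ≠ x ∧ d ≠ b₀ ∧ d ≠ b ∧ d ≠ b' ∧
      ∀ a' ∈ Ln D x a, a' ≠ x → Commute (b * b₀ * (b' * b₀) * (d * b₀)) a' := by
  have hnac : ∀ c ∈ Ln D x b₀, c ≠ x → ∀ a' ∈ Ln D x a, a' ≠ x → ¬ Commute a' c :=
    fun c hc hcx a' ha' hax h => by
      have h1 : Commute a' b₀ := P.commute_all hx hb₀ (P.left_mem hx) hc hcx.symm ha'.1
        (P.mem_nb hx ha ha' hax).2.2.symm h (P.right_mem hb₀)
      exact hab (P.commute_all hx ha (P.left_mem hx) ha' hax.symm hb₀.1 hb₀.2.2.symm h1.symm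
        (P.right_mem ha)).symm
  have hn : ∀ {c}, c ∈ Ln D x b₀ → c ≠ x → c ∈ nb D x := fun hc hcx => P.mem_nb hx hb₀ hc hcx
  have hback : ∀ {c}, c ∈ Ln D x b₀ → c ≠ x → b₀ ∈ Ln D x c := fun {c} hc hcx =>
    P.Ln_eq hx hb₀ hc hcx ▸ P.right_mem hb₀
  have hsq : ∀ {c}, c ∈ Ln D x b₀ → c * b₀ * (c * b₀) = 1 := fun {c} hc =>
    P.pair_mul_self hc.1 hb₀.1 (P.mem_B hx hb₀ hc).2.2
  have ha0 := P.right_mem ha
  obtain ⟨ha₁, haa₁, -⟩ :=
    P.pair_move hx ha (hn hb' hb'x) (hback hb' hb'x) hb₀.2.1 (hnac b' hb' hb'x a ha0 ha.2.1)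
  set a₁ := cj (b' * b₀) a with ha₁def
  obtain ⟨ha₂, haa₂, -⟩ :=
    P.pair_move hx ha₁ (hn hb hbx) (hback hb hbx) hb₀.2.1 (hnac b hb hbx a₁ haa₁ ha₁.2.1)
  rw [P.Ln_eq hx ha haa₁ ha₁.2.1] at haa₂
  obtain ⟨d, hd, hdx, hde⟩ := P.exists_translate hx ha hb₀ haa₂ ha₂.2.1 hab
  have hcm : ∀ {c c' : G}, c ∈ Ln D x b₀ → c' ∈ Ln D x b₀ → Commute (c * b₀) (c' * b₀) :=
    fun {c c'} hc hc' =>
      ((P.clique hx hb₀ hc hc').mul_right (P.mem_B hx hb₀ hc).2.2).mul_left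
        ((P.mem_B hx hb₀ hc').2.2.symm.mul_right (Commute.refl b₀))
  refine ⟨d, hd, hdx, ?_, ?_, ?_, fun a' ha' hax => ?_⟩
  · intro e
    rw [e, P.sq hb₀.1, cj_one] at hde
    have h1 : cj (b * b₀) a = a₁ := by
      conv_lhs => rw [hde, cj_mul_self (hsq hb)]
    refine hne ((P.pair_move hx ha (hn hb hbx) (b' := b') (P.Ln_eq hx hb₀ hb hbx ▸ hb') hb'x
      (hnac b hb hbx a ha0 ha.2.1)).2.2 ?_)
    have h2 : b * b' = (b' * b₀) * (b * b₀) := by
      rw [mul_assoc, ← mul_assoc b₀, ← (P.mem_B hx hb₀ hb).2.2.eq, mul_assoc b, P.sq hb₀.1,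
        mul_one, (P.clique hx hb₀ hb hb').eq]
    rw [h2, ← cj_cj, h1, ha₁def, cj_mul_self (hsq hb')]
  · rintro rfl
    have h1 := cj_injective _ hde
    exact hne₀' ((P.pair_move hx ha (hn hb' hb'x) (hback hb' hb'x) hb₀.2.1
      (hnac b' hb' hb'x a ha0 ha.2.1)).2.2 h1.symm)
  · rintro rfl
    rw [← ha₁def] at hde
    exact hne₀ ((P.pair_move hx ha₁ (hn hb hbx) (hback hb hbx) hb₀.2.1
      (hnac b hb hbx a₁ haa₁ ha₁.2.1)).2.2 hde.symm)
  · obtain ⟨c, hc, -, hce⟩ := P.exists_translate hx ha hb₀ ha' hax hab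
    refine commute_of_cj_eq ?_
    have hA : Commute (b * b₀ * (b' * b₀) * (d * b₀)) (c * b₀) :=
      ((hcm hb hc).mul_left (hcm hb' hc)).mul_left (hcm hd hc)
    rw [← hce, cj_cj, hA.eq, ← cj_cj]
    refine congrArg _ ?_
    rw [((hcm hb hd).mul_left (hcm hb' hd)).eq, ← cj_cj (d * b₀), ← cj_cj (b * b₀), ← ha₁def, ← hde,
      cj_mul_self (hsq hd)]

/-- Two pairs of points of a line through `x` fixing `a` fix every point whose trace `b` on that
line avoids them and which is collinear with `a`. -/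
theorem fix_far {x a b f b₁ b₂ b₃ b₄ : G} (hx : x ∈ D) (ha : a ∈ nb D x) (hb : b ∈ nb D x)
    (hab : ¬ Commute a b) (hf : f ∈ nb D b) (hfx : ¬ Commute f x) (hfa : Commute f a)
    (h₁ : b₁ ∈ Ln D x b) (h₂ : b₂ ∈ Ln D x b) (h₃ : b₃ ∈ Ln D x b) (h₄ : b₄ ∈ Ln D x b)
    (n₁ : b₁ ≠ b) (n₂ : b₂ ≠ b) (n₃ : b₃ ≠ b) (n₄ : b₄ ≠ b)
    {e : G} (he : Commute e f) (hfix : Commute (b₁ * b₂ * (b₃ * b₄) * e) a) :
    Commute (b₁ * b₂ * (b₃ * b₄)) f := by
  have hnb : ∀ {c}, c ∈ Ln D x b → c ≠ b → c ∈ nb D b := fun {c} hc hcb =>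
    ⟨hc.1, hcb, (P.mem_B hx hb hc).2.2.symm⟩
  have hline : ∀ {c c'}, c ∈ Ln D x b → c' ∈ Ln D x b → c ≠ b → c' ∈ Ln D b c :=
    fun {c c'} hc hc' hcb => by
      rw [P.Ln_pair hx hb (P.right_mem hb) hc hcb.symm]
      exact hc'
  have hn : ∀ {c}, c ∈ Ln D x b → c ≠ b → ∀ g ∈ nb D b, ¬ Commute g x → ¬ Commute g c :=
    fun {c} hc hcb g hg hgx h => hgx (P.commute_all hx hb (P.right_mem hb) hc hcb.symm hg.1
      hg.2.2.symm h (P.left_mem hx))
  obtain ⟨h34, hc34, -⟩ := P.pair_move hb.1 hf (hnb h₃ n₃) (hline h₃ h₄ n₃) n₄ (hn h₃ n₃ f hf hfx)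
  set f' := cj (b₃ * b₄) f with hf'
  have hf'x : ¬ Commute f' x := by
    intro h
    have hu : Commute (b₃ * b₄) x := (P.mem_B hx hb h₃).2.1.mul_left (P.mem_B hx hb h₄).2.1
    rw [hf', ← cj_eq_of_commute hu] at h
    exact hfx (commute_cj_iff.1 h)
  obtain ⟨h12, hc12, -⟩ :=
    P.pair_move hb.1 h34 (hnb h₁ n₁) (hline h₁ h₂ n₁) n₂ (hn h₁ n₁ f' h34 hf'x)
  rw [P.Ln_eq hb.1 hf hc34 h34.2.1] at hc12
  rw [hf', cj_cj] at h12 hc12
  set u := b₁ * b₂ * (b₃ * b₄) with hu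
  set g := cj u f with hg
  refine commute_of_cj_eq ?_
  have hga : Commute g a := by
    have h := (commute_cj_iff (g := u * e)).2 hfa
    rwa [cj_eq_of_commute hfix, ← cj_cj, cj_eq_of_commute he] at h
  by_contra hne
  exact hab (P.commute_all hb.1 hf hc12 (P.right_mem hf) hne ha.1 hga.symm hfa.symm
    (P.left_mem hb.1))

theorem exists_far_at {x a b : G} (hx : x ∈ D) (ha : a ∈ nb D x) (hb : b ∈ nb D x) :
    ∃ f ∈ nb D b, ¬ Commute f x ∧ ∃ a' ∈ Ln D x a, a' ≠ x ∧ Commute f a' := by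
  obtain ⟨f, hf, hxf⟩ := P.exists_noncommute_nb hb.1 (nb_symm hx hb)
  obtain ⟨r, hr, hfr⟩ := P.exists_trace hx ha hf.1
  exact ⟨f, hf, fun h => hxf h.symm, r, hr, fun e => hxf (e ▸ hfr).symm, hfr⟩

theorem ncard_Ln_le_five {p q : G} (hp : p ∈ D) (hq : q ∈ nb D p) : (Ln D p q).ncard ≤ 5 := by
  classical
  by_contra hlt
  push Not at hlt
  obtain ⟨a, ha, hqa⟩ := P.exists_noncommute_nb hp hq
  have hab : ¬ Commute a q := fun h => hqa h.symm
  have hpick : ∀ T : Finset G, T.card ≤ 5 → ∃ c ∈ Ln D p q, c ∉ T := by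
    intro T hT
    by_contra hall
    push Not at hall
    have := (Set.ncard_le_ncard (show Ln D p q ⊆ (T : Set G) from fun c hc => hall c hc)
      T.finite_toSet).trans_eq (Set.ncard_coe_finset T)
    omega
  obtain ⟨b', hb'L, hb'n⟩ := hpick {p, q} (Finset.card_le_two.trans (by norm_num))
  obtain ⟨b₀, hb₀L, hb₀n⟩ := hpick {p, q, b'} (Finset.card_le_three.trans (by norm_num))
  simp only [Finset.mem_insert, Finset.mem_singleton, not_or] at hb'n hb₀n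
  have hb₀N := P.mem_nb hp hq hb₀L hb₀n.1
  have hL₀ : Ln D p b₀ = Ln D p q := P.Ln_eq hp hq hb₀L hb₀n.1
  have hqL := P.right_mem hq
  have hab₀ : ¬ Commute a b₀ := fun h => hab
    (P.commute_all hp hq (P.left_mem hp) hb₀L (Ne.symm hb₀n.1) ha.1 ha.2.2.symm h hqL)
  obtain ⟨d, hd, hdp, hdne₀, hdq, hdb', hfix⟩ := P.exists_four hp ha hb₀N (b := q) (b' := b')
    (hL₀.symm ▸ hqL) (hL₀.symm ▸ hb'L) hq.2.1 hb'n.1 hab₀ (Ne.symm hb'n.2) (Ne.symm hb₀n.2.1)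
    (Ne.symm hb₀n.2.2)
  have hdL : d ∈ Ln D p q := hL₀ ▸ hd
  obtain ⟨b₅, hb₅L, hb₅n⟩ := hpick {p, q, b', b₀, d} Finset.card_le_five
  simp only [Finset.mem_insert, Finset.mem_singleton, not_or] at hb₅n
  have hb₅N := P.mem_nb hp hq hb₅L hb₅n.1
  have hL₅ : Ln D p b₅ = Ln D p q := P.Ln_eq hp hq hb₅L hb₅n.1
  set u := q * b₀ * (b' * b₀) * (d * b₀) with hu
  have hcomm : ∀ {c c'}, c ∈ Ln D p q → c' ∈ Ln D p q → Commute c c' :=
    fun {c c'} hc hc' => P.clique hp hq hc hc'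
  have hu4 : u = q * b' * (d * b₀) := by
    rw [hu, mul_assoc q b₀, ← mul_assoc b₀, (hcomm hb₀L hb'L).eq, mul_assoc b', P.sq hb₀N.1, mul_one]
  have hfix' : ∀ a' ∈ Ln D p a, a' ≠ p → Commute (q * b' * (d * b₀)) a' := fun a' h h' =>
    hu4 ▸ hfix a' h h'
  obtain ⟨f, hf, hfx, a', ha'L, ha'p, hfa'⟩ := P.exists_far_at hp ha hq
  have ha' := P.mem_nb hp ha ha'L ha'p
  have hab' : ¬ Commute a' q := fun h => hab
    (P.commute_all hp ha (P.left_mem hp) ha'L (Ne.symm ha'p) hq.1 hq.2.2.symm h.symm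
      (P.right_mem ha)).symm
  have hux : Commute (q * b' * (d * b₀) * p) f := by
    have h2 : p * b' * (d * b₀) * q = q * b' * (d * b₀) * p := by
      have hpq : Commute (b' * (d * b₀)) q :=
        (hcomm hb'L hqL).mul_left ((hcomm hdL hqL).mul_left (hcomm hb₀L hqL))
      have hpp : Commute (b' * (d * b₀)) p :=
        (hcomm hb'L (P.left_mem hp)).mul_left
          ((hcomm hdL (P.left_mem hp)).mul_left (hcomm hb₀L (P.left_mem hp)))
      simp only [mul_assoc] at hpq hpp ⊢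
      calc p * (b' * (d * (b₀ * q))) = p * (q * (b' * (d * b₀))) :=
            congrArg (p * ·) (by simpa only [mul_assoc] using hpq.eq)
        _ = q * (p * (b' * (d * b₀))) := by rw [← mul_assoc, hq.2.2.eq, mul_assoc]
        _ = q * (b' * (d * (b₀ * p))) :=
            congrArg (q * ·) (by simpa only [mul_assoc] using hpp.eq.symm)
    have hua : Commute (q * b' * (d * b₀) * p) a' := (hfix' a' ha'L ha'p).mul_left ha'.2.2
    have h3 := P.fix_far hp ha' hq hab' hf hfx hfa' (P.left_mem hp) hb'L hdL hb₀L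
      hq.2.1.symm hb'n.2 hdq hb₀n.2.1 hf.2.2 (h2.symm ▸ hua)
    exact h2 ▸ h3.mul_left hf.2.2
  obtain ⟨c, hc, hcp, hce⟩ := P.exists_translate hp hq ha hb₅L hb₅n.1 hqa
  set v := c * a with hv
  have huv : Commute (q * b' * (d * b₀)) v :=
    (hfix' c hc hcp).mul_right (hfix' a (P.right_mem ha) ha.2.1)
  have hvp : Commute v p := (P.mem_nb hp ha hc hcp).2.2.symm.mul_left ha.2.2.symm
  have hf₅ : cj v f ∈ nb D b₅ := hce ▸ P.cj_nb v hf
  have hfx₅ : ¬ Commute (cj v f) p := fun h => by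
    rw [← cj_eq_of_commute hvp] at h
    exact hfx (commute_cj_iff.1 h)
  have ha₅ : cj v a' ∈ nb D p := P.cj_mem_nb hvp ha'
  have hab₅ : ¬ Commute (cj v a') b₅ := fun h => hab' (by rw [← hce] at h; exact commute_cj_iff.1 h)
  have hfa₅ : Commute (cj v f) (cj v a') := commute_cj_iff.2 hfa'
  have hua₅ : Commute (q * b' * (d * b₀)) (cj v a') :=
    (huv.mul_right (hfix' a' ha'L ha'p)).mul_right huv.inv_right
  have h4 : Commute (q * b' * (d * b₀)) (cj v f) := by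
    rw [← hL₅] at hqL hb'L hdL hb₀L
    exact P.fix_far hp ha₅ hb₅N hab₅ hf₅ hfx₅ hfa₅ hqL hb'L hdL hb₀L (Ne.symm hb₅n.2.1)
      (Ne.symm hb₅n.2.2.1) (Ne.symm hb₅n.2.2.2.2) (Ne.symm hb₅n.2.2.2.1) (Commute.one_left _)
      (by rwa [mul_one])
  have h5 : Commute (q * b' * (d * b₀) * p) (cj v f) :=
    ((huv.mul_left hvp.symm).mul_right hux).mul_right (huv.mul_left hvp.symm).inv_right
  have h6 := h4.inv_left.mul_left h5
  rw [inv_mul_cancel_left] at h6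
  exact hfx₅ h6.symm

theorem ncard_Ln_cases {p q : G} (hp : p ∈ D) (hq : q ∈ nb D p) :
    (Ln D p q).ncard = 3 ∨ (Ln D p q).ncard = 5 := by
  have h2 := P.ncard_Ln_le_five hp hq
  obtain ⟨r, hr, hrp, hrq⟩ := P.thick p hp q hq
  have h3 : ({p, q, r} : Set G).ncard ≤ (Ln D p q).ncard := Set.ncard_le_ncard (by
    rintro d (rfl | rfl | rfl)
    exacts [P.left_mem hp, P.right_mem hq, hr]) (Set.toFinite _)
  rw [Set.ncard_eq_three.2 ⟨p, q, r, hq.2.1.symm, hrp.symm, hrq.symm, rfl⟩] at h3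
  obtain ⟨k, hk⟩ := P.odd_ncard_Ln hp hq
  omega

/-- The points of a line of five points multiply to `1`. -/
theorem five_prod {x b₁ b₂ b₃ b₄ : G} (hx : x ∈ D) (h₁ : b₁ ∈ nb D x)
    (m₂ : b₂ ∈ Ln D x b₁) (m₃ : b₃ ∈ Ln D x b₁) (m₄ : b₄ ∈ Ln D x b₁)
    (n2 : b₂ ≠ x) (n3 : b₃ ≠ x) (n4 : b₄ ≠ x) (n12 : b₁ ≠ b₂) (n13 : b₁ ≠ b₃) (n14 : b₁ ≠ b₄)
    (n23 : b₂ ≠ b₃) (n24 : b₂ ≠ b₄) (n34 : b₃ ≠ b₄) : x * (b₁ * b₂ * (b₃ * b₄)) = 1 := by
  classical
  have hsub : ({x, b₁, b₂, b₃, b₄} : Set G) ⊆ Ln D x b₁ := by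
    rintro w (rfl | rfl | rfl | rfl | rfl)
    exacts [P.left_mem hx, P.right_mem h₁, m₂, m₃, m₄]
  have h5 : ({x, b₁, b₂, b₃, b₄} : Set G).ncard = 5 := by
    rw [Set.ncard_insert_of_notMem (by simp [h₁.2.1.symm, n2.symm, n3.symm, n4.symm]) (Set.toFinite _),
      Set.ncard_insert_of_notMem (by simp [n12, n13, n14]) (Set.toFinite _),
      Set.ncard_eq_three.2 ⟨b₂, b₃, b₄, n23, n24, n34, rfl⟩]
  have heq := Set.eq_of_subset_of_ncard_le hsub (h5 ▸ P.ncard_Ln_le_five hx h₁) (Set.toFinite _)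
  have m₁ := P.right_mem h₁
  have mx : x ∈ Ln D x b₁ := P.left_mem hx
  have N₄ := P.mem_nb hx h₁ m₄ n4
  have hcomm : ∀ {c c'}, c ∈ Ln D x b₁ → c' ∈ Ln D x b₁ → Commute c c' :=
    fun {c c'} hc hc' => P.clique hx h₁ hc hc'
  set U := b₁ * b₂ * (b₃ * b₄) with hU
  have hUx : Commute U x :=
    ((hcomm m₁ mx).mul_left (hcomm m₂ mx)).mul_left ((hcomm m₃ mx).mul_left (hcomm m₄ mx))
  have hL₄ : Ln D x b₄ = Ln D x b₁ := P.Ln_eq hx h₁ m₄ n4
  have hnbx : ∀ a ∈ nb D x, Commute (x * U) a := by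
    intro a ha
    refine ha.2.2.mul_left ?_
    by_cases hab : Commute a b₄
    · have hall : ∀ {c}, c ∈ Ln D x b₁ → Commute c a := fun {c} hc =>
        (P.commute_all hx h₁ mx m₄ n4.symm ha.1 ha.2.2.symm hab hc).symm
      exact ((hall m₁).mul_left (hall m₂)).mul_left ((hall m₃).mul_left (hall m₄))
    obtain ⟨d, hd, hdx, hdn₄, hdn₁, hdn₂, hfix⟩ := P.exists_four hx ha N₄ (b := b₁) (b' := b₂)
      (hL₄.symm ▸ m₁) (hL₄.symm ▸ m₂) h₁.2.1 n2 hab n12 n14 n24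
    rw [hL₄, ← heq] at hd
    simp only [Set.mem_insert_iff, Set.mem_singleton_iff, hdx, hdn₁, hdn₂, hdn₄, false_or,
      or_false] at hd
    subst hd
    have h := hfix a (P.right_mem ha) ha.2.1
    rw [mul_assoc b₁ b₄, ← mul_assoc b₄ b₂, (hcomm m₄ m₂).eq, mul_assoc b₂, P.sq N₄.1,
      mul_one] at h
    exact h
  have hkey : ∀ c₁ c₂ c₃ c₄ f : G, c₁ ∈ Ln D x b₁ → c₂ ∈ Ln D x b₁ → c₃ ∈ Ln D x b₁ →
      c₄ ∈ Ln D x b₁ → c₁ ≠ c₄ → c₂ ≠ c₄ → c₃ ≠ c₄ → c₄ ≠ x → f ∈ nb D c₄ → ¬ Commute f x →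
      x * (c₁ * c₂ * (c₃ * c₄)) = x * U → Commute (x * U) f := by
    intro c₁ c₂ c₃ c₄ f k₁ k₂ k₃ k₄ e₁ e₂ e₃ ex hf hfx heq'
    have N : c₄ ∈ nb D x := P.mem_nb hx h₁ k₄ ex
    have hB : Ln D x c₄ = Ln D x b₁ := P.Ln_eq hx h₁ k₄ ex
    obtain ⟨a, ha, hac⟩ := P.exists_noncommute_nb hx N
    obtain ⟨r, hr, hfr⟩ := P.exists_trace hx ha hf.1
    have hrx : r ≠ x := fun e => hfx (e ▸ hfr)
    have hrn := P.mem_nb hx ha hr hrx
    have hrc : ¬ Commute r c₄ := fun h => hac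
      (P.commute_all hx ha (P.left_mem hx) hr hrx.symm N.1 N.2.2.symm h.symm (P.right_mem ha))
    have hcx : Commute (c₁ * c₂ * (c₃ * c₄)) x :=
      ((hcomm k₁ mx).mul_left (hcomm k₂ mx)).mul_left ((hcomm k₃ mx).mul_left (hcomm k₄ mx))
    have hW : c₁ * c₂ * (c₃ * x) * c₄ = x * U := by
      rw [← heq', ← hcx.eq]
      simp only [mul_assoc, (hcomm k₄ mx).eq]
    rw [← hB] at k₁ k₂ k₃
    have h := P.fix_far hx hrn N hrc hf hfx hfr k₁ k₂ k₃ (P.left_mem hx) e₁ e₂ e₃ ex.symm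
      hf.2.2 (hW.symm ▸ hnbx r hrn)
    exact hW ▸ h.mul_left hf.2.2
  refine P.eq_one_of_fix fun f hf => cj_eq_of_commute ?_
  by_cases hxf : Commute x f
  · by_cases hfe : f = x
    · exact hfe ▸ (Commute.refl x).mul_left hUx
    · exact hnbx f ⟨hf, hfe, hxf⟩
  have hfx : ¬ Commute f x := fun h => hxf h.symm
  obtain ⟨r, hr, hfr⟩ := P.exists_trace hx h₁ hf
  have hrx : r ≠ x := fun e => hfx (e ▸ hfr)
  have hrf : f ∈ nb D r := ⟨hf, fun e => hfx (e ▸ (P.mem_B hx h₁ hr).2.1), hfr.symm⟩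
  have hswap : ∀ {u v w z : G}, v ∈ Ln D x b₁ → w ∈ Ln D x b₁ → z ∈ Ln D x b₁ →
      u * v * (w * z) = u * z * (w * v) := by
    intro u v w z hv hw hz
    rw [(hcomm hw hz).eq, (hcomm hv hz).mul_mul_mul_comm, (hcomm hv hw).eq]
  rw [← heq] at hr
  simp only [Set.mem_insert_iff, Set.mem_singleton_iff, hrx, false_or] at hr
  rcases hr with rfl | rfl | rfl | rfl
  · refine hkey b₂ b₄ b₃ r f m₂ m₄ m₃ m₁ n12.symm n14.symm n13.symm hrx hrf hfx ?_
    rw [hU, hswap m₄ m₃ m₁, (hcomm m₂ m₁).eq]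
  · exact hkey b₁ b₄ b₃ r f m₁ m₄ m₃ m₂ n12 n24.symm n23.symm hrx hrf hfx
      (by rw [hU, hswap m₄ m₃ m₂])
  · exact hkey b₁ b₂ b₄ r f m₁ m₂ m₄ m₃ n13 n23 n34.symm hrx hrf hfx
      (by rw [hU, (hcomm m₄ m₃).eq])
  · exact hkey b₁ b₂ b₃ r f m₁ m₂ m₃ m₄ n14 n24 n34 hrx hrf hfx rfl

end Polar

/-- Twins in the residue give a third point on every line. -/
theorem polar_of_twins [Finite G] (H : Cls D) {x : G} (hx : x ∈ D)
    (h : ¬ Cfsg.pCore 2 ↥(Subgroup.closure (nb D x)) ≤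
      Subgroup.center ↥(Subgroup.closure (nb D x))) : Polar D := by
  set X := Subgroup.closure (nb D x) with hX
  obtain ⟨a, ha⟩ := H.nb_nonempty hx
  let e : ∀ c : G, c ∈ nb D x → X := fun c hc => ⟨c, Subgroup.subset_closure hc⟩
  set E : Set X := (X.subtype) ⁻¹' nb D x with hE
  have hEc : Cfsg.IsThreeTranspositionClass E := by
    refine ⟨⟨fun c hc => ?_, fun c hc c' hc' => ?_⟩, ⟨e a ha, ha, Set.ext fun g => ⟨fun hg => ?_, fun hg => ?_⟩⟩, ?_⟩
    · rw [← Subgroup.orderOf_coe]; exact H.cl.1.1 _ (show (c : G) ∈ nb D x from hc).1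
    · rcases H.cl.1.2 _ (show (c : G) ∈ nb D x from hc).1 _ (show (c' : G) ∈ nb D x from hc').1 with h | h
      · exact Or.inl (Subtype.ext h)
      · exact Or.inr (Subtype.ext h)
    · obtain ⟨k, hk, hka⟩ := H44.dx_conjugate H.cl H.sol hx ha (show (g : G) ∈ nb D x from hg)
      exact isConj_iff.2 ⟨⟨k, hk⟩, Subtype.ext hka⟩
    · obtain ⟨k, rfl⟩ := isConj_iff.1 hg
      exact H.cj_mem_nb (commute_of_mem_closure_nb k.2) ha
    · exact Subgroup.closure_closure_coe_preimage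
  obtain ⟨v, hv, hne, hmem⟩ := Components.exists_ne_mul_mem hEc h (show e a ha ∈ E from ha)
  have hv' : (v : G) ∈ nb D x := hv
  have htw := Components.twin_of_pCore_two hEc.1 (show e a ha ∈ E from ha) hv hmem
  have hl : OnLine D x a v := by
    refine ⟨hv'.1, fun d hd => ?_⟩
    by_cases hdx : d = x
    · exact hdx ▸ hv'.2.2.symm
    have h1 : Commute (e a ha) (e d ⟨hd.1, hdx, hd.2.1.symm⟩) := Subtype.ext hd.2.2.symm.eq
    exact ((htw (e d ⟨hd.1, hdx, hd.2.1.symm⟩) ⟨hd.1, hdx, hd.2.1.symm⟩).2 h1).map X.subtype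
  refine { toCls := H, thick := fun p hp q hq => ?_ }
  obtain ⟨g, rfl, rfl⟩ := H.exists_cj_pair hx ha hp hq
  exact ⟨cj g v, (H.onLine_cj g).2 hl, fun e => hv'.2.1 (cj_injective g e),
    fun e => hne (Subtype.ext (cj_injective g e))⟩

end Cfsg.Agent.H80.TTPolar
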