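import Cfsg.Agent.H80.TTPolar.Twins

/-!
The twin group at `x` is regular on the members not commuting with `x`; the elements moving `f` to
a collinear point, and the elements fixing `T x f`.
-/

set_option autoImplicit false
set_option linter.unusedSectionVars false

namespace Cfsg.Agent.H80.TTPolar

open Cfsg
open H76.LocallyS3 (nb cj cj_cj cj_injective commute_cj_iff)
open H80.TTQuad (Cls B OnLine T far cjOrb cj_one cj_inv_cj cj_cj_inv cj_eq_of_commute
  commute_of_cj_eq nb_symm cj_mul_self mem_T_of_commute far_symm ne_of_not_commute)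

universe u

variable {G : Type u} [Group G] {D : Set G}

namespace Five

variable [Finite G] (P : Five D) {x f : G} (hx : x ∈ D) (hf : f ∈ far D x)
include P hx hf

theorem cj_far {u w : G} (hu : u ∈ Tw D x) (hw : w ∈ far D x) : cj u w ∈ far D x :=
  ⟨P.mem_cj u hw.1, fun h => hw.2 (by
    rw [← cj_eq_of_commute (P.commute_x hx hu)] at h
    exact commute_cj_iff.1 h)⟩

/-- A move of `f` to a collinear far point is a product in the twin group up to a member fixing
`f`. -/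
theorem near_mem {t c : G} (ht : t ∈ T D x f) (hc : c ∈ Ln D x t) (hcx : c ≠ x) :
    t * c * x ∈ Tw D x ∧ cj (c * x) f = cj (t * c * x) f := by
  have hcn := P.mem_nb hx ht.1 hc hcx
  refine ⟨mul_mem (P.mem_twin ht.1 hc hcx) (P.mem_x x), ?_⟩
  have h1 : t * c * x = c * x * t := by
    rw [(P.clique hx ht.1 (P.right_mem ht.1) hc).eq, mul_assoc, ht.1.2.2.symm.eq, ← mul_assoc]
  rw [h1, ← cj_cj (c * x) t, cj_eq_of_commute ht.2.2.2.symm]

theorem transitive {g : G} (hg : g ∈ far D x) : ∃ u ∈ Tw D x, cj u f = g := by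
  -- the orbit contains the far points collinear with its members
  have hstep : ∀ v ∈ Tw D x, ∀ g ∈ nb D (cj v f), ¬ Commute x g → ∃ u ∈ Tw D x, cj u f = g := by
    intro v hv g hg hgx
    have hw := P.cj_far hx hf hv hf
    obtain ⟨c, hc, hce⟩ := P.exists_near_aux hx hw hg hgx
    obtain ⟨t, ht, hct, -⟩ := P.exists_T hx hf hc
    have hu := (P.near_mem hx hf ht hct hc.2.1).1
    refine ⟨cj t (t * c * x * v), P.Tw_conj hx ht.1.2.2.symm (mul_mem hu hv), ?_⟩
    have h1 : cj t (t * c * x * v) = c * x * v * t := by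
      simp only [cj, P.inv' ht.1.1, ← mul_assoc, P.sq ht.1.1, one_mul]
    rw [h1, ← cj_cj, cj_eq_of_commute ht.2.2.2.symm, ← cj_cj, hce]
  by_cases hfg : Commute f g
  · by_cases e : g = f
    · exact ⟨1, one_mem _, by rw [e, cj_one]⟩
    exact hstep 1 (one_mem _) g (by rw [cj_one]; exact ⟨hg.1, e, hfg⟩) hg.2
  by_cases hS : ∀ t ∈ T D x f, Commute g t
  · rcases P.common_perp hx hf hg.1 hS with e | e | e
    · exact absurd (e ▸ Commute.refl x) hg.2
    · exact ⟨1, one_mem _, by rw [e, cj_one]⟩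
    · exact ⟨x, P.mem_x x, e.symm⟩
  obtain ⟨w, hw, hwx⟩ := P.exists_bridge_aux hx hf hg hfg hS
  obtain ⟨u, hu, hue⟩ := hstep 1 (one_mem _) w (by rw [cj_one]; exact hw.1) hwx
  exact hstep u hu g (by rw [hue]; exact nb_symm hg.1 hw.2) hg.2

theorem eq_of_cj_eq {u v : G} (hu : u ∈ Tw D x) (hv : v ∈ Tw D x) (h : cj u f = cj v f) :
    u = v :=
  (inv_mul_eq_one.1 (P.free hx hf (mul_mem (inv_mem hv) hu) (by
    rw [← cj_cj, h, cj_inv_cj]))).symm

theorem lift_mem {v : G} (hv : IsLift D x f v) : v ∈ Tw D x := by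
  obtain ⟨t, ht, y, hy, hyx, -, rfl⟩ := hv
  exact (P.near_mem hx hf ht hy hyx).1

theorem lift_near {t y : G} (ht : t ∈ T D x f) (hy : y ∈ Ln D x t) (hyx : y ≠ x) (hyt : y ≠ t) :
    cj (t * y * x) f ∈ Ln D t f ∧ cj (t * y * x) f ∈ nb D f ∧
      ¬ Commute x (cj (t * y * x) f) := by
  rw [← (P.near_mem hx hf ht hy hyx).2]
  have hyn := P.mem_nb hx ht.1 hy hyx
  have hytn : y ∈ nb D t := ⟨hy.1, hyt, P.clique hx ht.1 (P.right_mem ht.1) hy⟩
  have hfy : ¬ Commute f y := fun h => hyt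
    (P.T_unique hx hf hyn (mem_T_of_commute hf.2 hy.1 hyn.2.2 h) ht (P.right_mem hyn)
      (P.Ln_back hx ht.1 hy hyx))
  have hxL : x ∈ Ln D t y := by
    rw [P.Ln_pair hx ht.1 (P.right_mem ht.1) hy (Ne.symm hyt)]
    exact P.left_mem hx
  have hft : f ∈ nb D t := nb_symm hf.1 ht.2
  obtain ⟨h1, h2, h3⟩ := P.pair_move ht.1.1 hft hytn hxL ht.1.2.1.symm hfy
  have hne : cj (y * x) f ≠ f := fun e => hyx (h3 e)
  refine ⟨h2, ⟨h1.1, hne, P.clique ht.1.1 hft (P.right_mem hft) h2⟩, fun h => ?_⟩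
  have hcx : Commute (y * x) x := hyn.2.2.symm.mul_left (Commute.refl x)
  exact hf.2 (commute_cj_iff.1
    (show Commute (cj (y * x) x) (cj (y * x) f) by rwa [cj_eq_of_commute hcx]))

theorem lift_of_near {u : G} (hu : u ∈ Tw D x) (hne : cj u f ≠ f) (h : Commute f (cj u f)) :
    IsLift D x f u := by
  obtain ⟨c, hc, hce⟩ := P.exists_near_aux hx hf ⟨(P.cj_far hx hf hu hf).1, hne, h⟩
    (P.cj_far hx hf hu hf).2
  obtain ⟨t, ht, hct, -⟩ := P.exists_T hx hf hc
  have hct' : c ≠ t := fun e => by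
    rw [e, ← cj_cj] at hce
    have h2 : cj t (cj x f) = cj x f := cj_eq_of_commute
      ((ht.1.2.2.symm.mul_right ht.2.2.2.symm).mul_right ht.1.2.2.symm.inv_right)
    rw [h2] at hce
    exact (P.not_commute_cj hx hf.1 hf.2).1 (hce.symm ▸ h)
  refine ⟨t, ht, c, hct, hc.2.1, hct', P.eq_of_cj_eq hx hf hu (P.near_mem hx hf ht hct hc.2.1).1 ?_⟩
  rw [← hce, (P.near_mem hx hf ht hct hc.2.1).2]

theorem lift_commute {v : G} (hv : IsLift D x f v) : Commute f (cj v f) := by
  obtain ⟨t, ht, y, hy, hyx, hyt, rfl⟩ := hv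
  exact (P.lift_near hx hf ht hy hyx hyt).2.1.2.2

theorem lift_mul_x {v : G} (hv : IsLift D x f v) : ¬ Commute f (cj (v * x) f) := by
  obtain ⟨t, ht, y, hy, hyx, hyt, rfl⟩ := hv
  obtain ⟨-, hn, hgx⟩ := P.lift_near hx hf ht hy hyx hyt
  intro h
  set g := cj (t * y * x) f with hg
  have hvx : Commute (t * y * x) x := P.commute_x hx (P.near_mem hx hf ht hy hyx).1
  rw [hvx.eq, ← cj_cj, ← hg] at h
  -- `g` commutes with `f` and `cj x f`
  have h1 : Commute (cj x f) g := by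
    have h2 := (commute_cj_iff (g := x)).2 h
    rwa [P.cj_invol hx] at h2
  have h2 : Commute g (cj f (cj x f)) :=
    (hn.2.2.symm.mul_right h1.symm).mul_right hn.2.2.symm.inv_right
  rw [P.braid hx hf.1 hf.2, P.cj_invol hf.1] at h2
  exact hgx h2.symm

theorem lift_ne_one {v : G} (hv : IsLift D x f v) : v ≠ 1 ∧ v ≠ x := by
  obtain ⟨t, ht, y, hy, hyx, hyt, rfl⟩ := hv
  obtain ⟨-, hn, -⟩ := P.lift_near hx hf ht hy hyx hyt
  refine ⟨fun e => hn.2.1 (by rw [e, cj_one]), fun e => ?_⟩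
  have h := hn.2.2
  rw [e] at h
  exact (P.not_commute_cj hx hf.1 hf.2).1 h

/-- Products of two lifts with commuting centres. -/
theorem lift_mul_iff {t y t' y' : G} (ht : t ∈ T D x f) (hy : y ∈ Ln D x t) (hyx : y ≠ x)
    (hyt : y ≠ t) (ht' : t' ∈ T D x f) (hy' : y' ∈ Ln D x t') (hy'x : y' ≠ x) (hy't : y' ≠ t') :
    Commute f (cj (t * y * x * (t' * y' * x)) f) ↔ Commute t t' := by
  obtain ⟨hl, hn, -⟩ := P.lift_near hx hf ht hy hyx hyt
  obtain ⟨hl', hn', -⟩ := P.lift_near hx hf ht' hy' hy'x hy't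
  set v := t * y * x with hv
  set v' := t' * y' * x with hv'
  have hvv : v * v = 1 := by
    have hc : Commute (t * y) x := ht.1.2.2.symm.mul_left (P.mem_nb hx ht.1 hy hyx).2.2.symm
    rw [hv, hc.symm.mul_mul_mul_comm]
    rw [show t * y * (t * y) = 1 from P.pair_mul_self ht.1.1 hy.1 (P.clique hx ht.1 (P.right_mem ht.1) hy),
      P.sq hx, one_mul]
  have hiff : Commute f (cj (v * v') f) ↔ Commute (cj v f) (cj v' f) := by
    rw [← commute_cj_iff (g := v), cj_cj v (v * v'), ← mul_assoc, hvv, one_mul]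
  rw [hiff]
  have hft : f ∈ nb D t := nb_symm hf.1 ht.2
  have hft' : f ∈ nb D t' := nb_symm hf.1 ht'.2
  have hgt : cj v f ≠ t := fun e => by
    have := (P.lift_near hx hf ht hy hyx hyt).2.2
    rw [e] at this; exact this ht.1.2.2
  have hgt' : cj v' f ≠ t' := fun e => by
    have := (P.lift_near hx hf ht' hy' hy'x hy't).2.2
    rw [e] at this; exact this ht'.1.2.2
  constructor
  · intro h
    -- `cj v f` commutes with all of the line through `t'` and `f`
    have h1 : Commute (cj v f) t' := P.commute_all ht'.1.1 hft' (P.right_mem hft') hl' hn'.2.1.symm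
      hn.1 hn.2.2.symm h (P.left_mem ht'.1.1)
    exact (P.commute_all ht.1.1 hft (P.right_mem hft) hl hn.2.1.symm ht'.1.1 ht'.2.2.2.symm h1.symm
      (P.left_mem ht.1.1)).symm
  · intro h
    have h1 : Commute t' (cj v f) := P.commute_all ht.1.1 hft (P.left_mem ht.1.1) (P.right_mem hft)
      ht.2.2.1 ht'.1.1 h.symm ht'.2.2.2.symm hl
    exact P.commute_all ht'.1.1 hft' (P.left_mem ht'.1.1) (P.right_mem hft') ht'.2.2.1 hn.1
      h1.symm hn.2.2.symm hl'

/-- The elements of the twin group. -/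
theorem Tw_cases {u : G} (hu : u ∈ Tw D x) :
    u = 1 ∨ u = x ∨ IsLift D x f u ∨
      ∃ v w, IsLift D x f v ∧ IsLift D x f w ∧ u = v * w ∧ ¬ Commute f (cj u f) := by
  by_cases hfix : cj u f = f
  · exact Or.inl (P.free hx hf hu hfix)
  by_cases hc : Commute f (cj u f)
  · exact Or.inr (Or.inr (Or.inl (P.lift_of_near hx hf hu hfix hc)))
  by_cases hS : ∀ t ∈ T D x f, Commute (cj u f) t
  · rcases P.common_perp hx hf (P.cj_far hx hf hu hf).1 hS with e | e | e
    · exact absurd (e ▸ Commute.refl x) (P.cj_far hx hf hu hf).2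
    · exact absurd e hfix
    · exact Or.inr (Or.inl (P.eq_of_cj_eq hx hf hu (P.mem_x x) e))
  obtain ⟨w, hw, hwx⟩ := P.exists_bridge_aux hx hf (P.cj_far hx hf hu hf) hc hS
  obtain ⟨v, hv, hve⟩ := P.transitive hx hf ⟨hw.1.1, hwx⟩
  have hvl : IsLift D x f v := P.lift_of_near hx hf hv (hve ▸ hw.1.2.1) (hve ▸ hw.1.2.2)
  have hm : v⁻¹ * u ∈ Tw D x := mul_mem (inv_mem hv) hu
  have hc2 : Commute f (cj (v⁻¹ * u) f) := by
    have h := (commute_cj_iff (g := v⁻¹)).2 hw.2.2.2.symm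
    rwa [← hve, cj_inv_cj, cj_cj] at h
  have hne2 : cj (v⁻¹ * u) f ≠ f := fun e => hw.2.2.1 (by
    rw [← hve]
    conv_lhs => rw [← e, cj_cj, mul_inv_cancel_left])
  exact Or.inr (Or.inr (Or.inr ⟨v, v⁻¹ * u, hvl, P.lift_of_near hx hf hm hne2 hc2,
    (mul_inv_cancel_left v u).symm, hc⟩))

/-- Only `1` and `x` fix all of `T x f`. -/
theorem kernel {u : G} (hu : u ∈ Tw D x) (h : ∀ t ∈ T D x f, cj u t = t) : u = 1 ∨ u = x := by
  rcases P.common_perp hx hf (P.cj_far hx hf hu hf).1 (fun t ht => by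
    have h2 := (commute_cj_iff (g := u)).2 ht.2.2.2
    rwa [h t ht] at h2) with e | e | e
  · exact absurd (e ▸ Commute.refl x) (P.cj_far hx hf hu hf).2
  · exact Or.inl (P.free hx hf hu e)
  · exact Or.inr (P.eq_of_cj_eq hx hf hu (P.mem_x x) e)

theorem commute_far_iff {u v : G} :
    Commute (cj u f) (cj v f) ↔ Commute f (cj (u⁻¹ * v) f) := by
  rw [← commute_cj_iff (g := u⁻¹), cj_inv_cj, cj_cj]

end Five

end Cfsg.Agent.H80.TTPolar
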