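import Cfsg.Agent.H80.TTPolar.Frame
import Cfsg.Agent.H80.TTQuad.Glue
import Cfsg.Agent.Unitary.Form

/-!
The twin group is a Heisenberg group over the Hermitian space: a second coordinate, vanishing exactly
on the elements moving `f` to commuting members.
-/

set_option autoImplicit false
set_option linter.unusedSectionVars false

namespace Cfsg.Agent.H80.TTPolar

open Cfsg
open H76.LocallyS3 (nb cj cj_cj cj_injective commute_cj_iff)
open H80.TTQuad (Cls B OnLine T far cjOrb cj_one cj_inv_cj cj_cj_inv cj_eq_of_commute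
  commute_of_cj_eq nb_symm cj_mul_self mem_T_of_commute far_symm ne_of_not_commute)
open Cfsg.Agent.Unitary (herm_add_left herm_add_right herm_zero_left herm_zero_right herm_swap herm_self_add
  herm_smul_left herm_self_smul herm_single_left herm_single_right)

universe u

/-- A Heisenberg group of the Hermitian space. -/
@[ext] structure Heis (m : ℕ) where
  vec : Fin m → Fq
  ph : Fq

namespace Heis

variable {m : ℕ}

instance : One (Heis m) := ⟨⟨0, 0⟩⟩
noncomputable instance : Mul (Heis m) :=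
  ⟨fun a b => ⟨a.vec + b.vec, a.ph + b.ph + hermForm m Fq 2 b.vec a.vec⟩⟩
noncomputable instance : Inv (Heis m) := ⟨fun a => ⟨a.vec, a.ph + hermForm m Fq 2 a.vec a.vec⟩⟩

@[simp] theorem mul_vec (a b : Heis m) : (a * b).vec = a.vec + b.vec := rfl
@[simp] theorem mul_ph (a b : Heis m) :
    (a * b).ph = a.ph + b.ph + hermForm m Fq 2 b.vec a.vec := rfl
@[simp] theorem one_vec : (1 : Heis m).vec = 0 := rfl
@[simp] theorem one_ph : (1 : Heis m).ph = 0 := rfl

@[simp] theorem inv_ph (a : Heis m) : a⁻¹.ph = a.ph + hermForm m Fq 2 a.vec a.vec := rfl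

noncomputable instance : Group (Heis m) :=
  Group.ofLeftAxioms
    (fun a b c => by
      ext1
      · simp [add_assoc]
      · simp only [mul_vec, mul_ph, herm_add_left, herm_add_right fq_card]; ring)
    (fun a => by
      ext1
      · simp
      · simp [herm_zero_right fq_card])
    (fun a => by
      ext1
      · exact funext fun i => fq_add_self _
      · show a.ph + hermForm m Fq 2 a.vec a.vec + a.ph + hermForm m Fq 2 a.vec a.vec = 0
        have : ∀ p q : Fq, p + q + p + q = 0 := by decide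
        exact this _ _)

instance : Finite (Heis m) :=
  Finite.of_injective (fun a : Heis m => (a.vec, a.ph)) fun a b h =>
    Heis.ext (congrArg Prod.fst h) (congrArg Prod.snd h)

end Heis

variable {G : Type u} [Group G] {D : Set G}

theorem fq_iso_cases : ∀ p : Fq, p + p ^ 2 = 0 → p = 0 ∨ p = 1 := by decide

theorem vec_add_self {m : ℕ} (a : Fin m → Fq) : a + a = 0 := funext fun _ => fq_add_self _

theorem vec_eq_of_add {m : ℕ} {a b : Fin m → Fq} (h : a + b = 0) : a = b :=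
  funext fun i => fq_eq_of_add _ _ (congrFun h i)

namespace Five

variable [Finite G] (P : Five D) {x f : G} (hx : x ∈ D) (hf : f ∈ far D x)
variable {e : G → G → Fq} {m : ℕ} {w : G → Fin m → Fq} (Fr : Frame D x f e m w)
include P hx hf Fr

theorem w_one : w 1 = 0 := by
  have h := Fr.mul 1 (one_mem _) 1 (one_mem _)
  rw [one_mul, vec_add_self] at h
  exact h

theorem w_inv {u : G} (hu : u ∈ Tw D x) : w u⁻¹ = w u := by
  have h := Fr.mul u hu u⁻¹ (inv_mem hu)
  rw [mul_inv_cancel, P.w_one hx hf Fr] at h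
  exact (vec_eq_of_add h.symm).symm

theorem w_eq {u v : G} (hu : u ∈ Tw D x) (hv : v ∈ Tw D x) (h : w u = w v) :
    v = u ∨ v = u * x := by
  rcases Fr.ker _ (mul_mem (inv_mem hu) hv) (by
    rw [Fr.mul _ (inv_mem hu) _ hv, P.w_inv hx hf Fr hu, h, vec_add_self]) with k | k
  · exact Or.inl (inv_mul_eq_one.1 k).symm
  · right; rw [← k, mul_inv_cancel_left]

theorem isLift_tw {t : G} (ht : t ∈ T D x f) {a : Fq} (ha : a ≠ 0) :
    IsLift D x f (tw D x e t a * x) := by
  obtain ⟨h1, h2, -⟩ := P.point_spec hx hf Fr.chart ht a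
  exact ⟨t, ht, _, h1, h2, P.point_ne hx hf Fr.chart ht ha, rfl⟩

theorem lift_form {v : G} (hv : IsLift D x f v) :
    ∃ t ∈ T D x f, ∃ a, a ≠ 0 ∧ v = tw D x e t a * x ∧ w v = w (tw D x e t a) := by
  obtain ⟨t, ht, y, hy, hyx, hyt, rfl⟩ := hv
  refine ⟨t, ht, e t y, fun h => hyt ((Fr.chart t ht).2 ⟨hy, hyx⟩ ⟨P.right_mem ht.1, ht.1.2.1⟩
    (h.trans (Fr.chart t ht).1.symm)), ?_⟩
  rw [tw, P.point_eq hx hf Fr.chart ht hy hyx]
  refine ⟨rfl, ?_⟩
  rw [Fr.mul _ (P.mem_twin ht.1 hy hyx) _ (P.mem_x x), Fr.map_x, add_zero]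

theorem herm_tw {t t' : G} (ht : t ∈ T D x f) (ht' : t' ∈ T D x f) {a a' : Fq} (ha : a ≠ 0)
    (ha' : a' ≠ 0) :
    hermForm m Fq 2 (w (tw D x e t a)) (w (tw D x e t' a')) = 0 ↔ Commute t t' := by
  rw [Fr.proj _ (P.tw_mem hx hf Fr.chart ht a) t' ht' a']
  constructor
  · intro h
    rcases mul_eq_zero.1 h with h | h
    · exact ((P.M_eq_zero_iff hx hf Fr.chart ht ht').1 h).resolve_left ha
    · exact absurd h (pow_ne_zero 2 ha')
  · intro h
    rw [(P.M_eq_zero_iff hx hf Fr.chart ht ht').2 (Or.inr h), zero_mul]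

theorem lift_w {v : G} (hv : IsLift D x f v) :
    w v ≠ 0 ∧ hermForm m Fq 2 (w v) (w v) = 0 := by
  refine ⟨fun h => ?_, ?_⟩
  · rcases Fr.ker v (P.lift_mem hx hf hv) h with k | k
    exacts [(P.lift_ne_one hx hf hv).1 k, (P.lift_ne_one hx hf hv).2 k]
  · obtain ⟨t, ht, a, ha, -, h⟩ := P.lift_form hx hf Fr hv
    rw [h, (P.herm_tw hx hf Fr ht ht ha ha).2 (Commute.refl t)]

theorem lift_unique {v v' : G} (hv : IsLift D x f v) (hv' : IsLift D x f v') (h : w v = w v') :
    v' = v := by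
  refine (P.w_eq hx hf Fr (P.lift_mem hx hf hv) (P.lift_mem hx hf hv') h).resolve_right fun e => ?_
  exact P.lift_mul_x hx hf hv (e ▸ P.lift_commute hx hf hv')

theorem commute_prod_iff {v v' : G} (hv : IsLift D x f v) (hv' : IsLift D x f v') :
    Commute f (cj (v * v') f) ↔ hermForm m Fq 2 (w v) (w v') = 0 := by
  obtain ⟨t, ht, a, ha, rfl, h⟩ := P.lift_form hx hf Fr hv
  obtain ⟨t', ht', a', ha', rfl, h'⟩ := P.lift_form hx hf Fr hv'
  rw [h, h', P.herm_tw hx hf Fr ht ht' ha ha']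
  obtain ⟨h1, h2, -⟩ := P.point_spec hx hf Fr.chart ht a
  obtain ⟨h1', h2', -⟩ := P.point_spec hx hf Fr.chart ht' a'
  exact P.lift_mul_iff hx hf ht h1 h2 (P.point_ne hx hf Fr.chart ht ha) ht' h1' h2'
    (P.point_ne hx hf Fr.chart ht' ha')

theorem mul_lift {v v' : G} (hv : IsLift D x f v) (hv' : IsLift D x f v')
    (h : hermForm m Fq 2 (w v) (w v') = 0) (hne : w v + w v' ≠ 0) : IsLift D x f (v * v') := by
  have hu := mul_mem (P.lift_mem hx hf hv) (P.lift_mem hx hf hv')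
  refine P.lift_of_near hx hf hu (fun e => ?_) ((P.commute_prod_iff hx hf Fr hv hv').2 h)
  rw [← Fr.mul _ (P.lift_mem hx hf hv) _ (P.lift_mem hx hf hv'), P.free hx hf hu e,
    P.w_one hx hf Fr] at hne
  exact hne rfl

theorem exists_lift {a : Fin m → Fq} (ha : a ≠ 0) (hiso : hermForm m Fq 2 a a = 0) :
    ∃ v, IsLift D x f v ∧ w v = a := by
  obtain ⟨u, hu, rfl⟩ := Fr.surj a
  rcases P.Tw_cases hx hf hu with rfl | rfl | h | ⟨v, v', hv, hv', rfl, hnc⟩
  · exact absurd (P.w_one hx hf Fr) ha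
  · exact absurd Fr.map_x ha
  · exact ⟨u, h, rfl⟩
  have hvm := P.lift_mem hx hf hv
  have hvm' := P.lift_mem hx hf hv'
  rw [Fr.mul _ hvm _ hvm', herm_self_add fq_card, (P.lift_w hx hf Fr hv).2,
    (P.lift_w hx hf Fr hv').2, add_zero, zero_add] at hiso
  have h1 := (fq_iso_cases _ hiso).resolve_left fun h => hnc ((P.commute_prod_iff hx hf Fr hv hv').2 h)
  obtain ⟨t, ht, a, ha0, -, hw⟩ := P.lift_form hx hf Fr hv
  obtain ⟨t', ht', a', ha', -, hw'⟩ := P.lift_form hx hf Fr hv'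
  rw [hw, hw', Fr.proj _ (P.tw_mem hx hf Fr.chart ht a) t' ht' a'] at h1
  have key : ∀ p a : Fq, p * a ^ 2 = 1 → p = a := by decide
  obtain ⟨e1, b, e2, hb⟩ := P.cj_tw hx hf Fr.chart ht ht' a
  rw [key _ _ h1, e2] at e1
  have hh := P.T_cj ht' ht
  refine ⟨_, P.isLift_tw hx hf Fr hh fun h => ha0 (hb h), ?_⟩
  rw [Fr.mul _ (P.tw_mem hx hf Fr.chart hh b) _ (P.mem_x x), Fr.map_x, add_zero, ← e1,
    Fr.mul _ (P.tw_mem hx hf Fr.chart ht' a') _ (P.tw_mem hx hf Fr.chart ht a), Fr.mul _ hvm _ hvm',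
    hw, hw', add_comm]

theorem mul_lift_one {v v' : G} (hv : IsLift D x f v) (hv' : IsLift D x f v')
    (h : hermForm m Fq 2 (w v) (w v') = 1) : IsLift D x f (v * v' * x) := by
  have hvm := P.lift_mem hx hf hv
  have hvm' := P.lift_mem hx hf hv'
  have hsum : hermForm m Fq 2 (w v + w v') (w v + w v') = 0 := by
    rw [herm_self_add fq_card, (P.lift_w hx hf Fr hv).2, (P.lift_w hx hf Fr hv').2, h]
    decide
  have hne : w v + w v' ≠ 0 := fun e => by
    rw [← vec_eq_of_add e, (P.lift_w hx hf Fr hv).2] at h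
    exact zero_ne_one h
  obtain ⟨l, hl, hle⟩ := P.exists_lift hx hf Fr hne hsum
  rcases P.w_eq hx hf Fr (mul_mem hvm hvm') (P.lift_mem hx hf hl)
    ((Fr.mul _ hvm _ hvm').trans hle.symm) with e | e
  · exfalso
    have hc := P.lift_commute hx hf hl
    rw [e, P.commute_prod_iff hx hf Fr hv hv', h] at hc
    exact one_ne_zero hc
  · exact e ▸ hl

theorem lift_sq {v : G} (hv : IsLift D x f v) : v * v = 1 := by
  obtain ⟨t, ht, a, -, rfl, -⟩ := P.lift_form hx hf Fr hv
  have hτ := P.tw_mem hx hf Fr.chart ht a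
  obtain ⟨h1, -, -⟩ := P.point_spec hx hf Fr.chart ht a
  rw [(P.commute_x hx hτ).symm.mul_mul_mul_comm, P.sq hx, mul_one, tw]
  exact P.pair_mul_self ht.1.1 h1.1 (P.clique hx ht.1 (P.right_mem ht.1) h1)

theorem two_pow_le_card : 2 ^ (2 * m + 1) ≤ Nat.card ↥(Tw D x) := by
  classical
  choose s hs hsw using Fr.surj
  have hxne : x ≠ 1 := H44.tt_ne_one P.cl.1 hx
  let g : (Fin m → Fq) × Bool → ↥(Tw D x) := fun z =>
    ⟨s z.1 * (if z.2 then x else 1),
      mul_mem (hs _) (by split_ifs <;> first | exact P.mem_x x | exact one_mem _)⟩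
  have hg : Function.Injective g := by
    rintro ⟨a, i⟩ ⟨b, j⟩ h
    have h1 : s a * (if i then x else 1) = s b * (if j then x else 1) := congrArg Subtype.val h
    have h2 : a = b := by
      have h3 := congrArg w h1
      rw [Fr.mul _ (hs a) _ (by split_ifs <;> first | exact P.mem_x x | exact one_mem _),
        Fr.mul _ (hs b) _ (by split_ifs <;> first | exact P.mem_x x | exact one_mem _)] at h3
      rcases i <;> rcases j <;> simpa [hsw, Fr.map_x, P.w_one hx hf Fr] using h3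
    subst h2
    have h4 := mul_left_cancel h1
    rcases i <;> rcases j <;> simp only [if_true, if_false, Bool.false_eq_true] at h4
    exacts [rfl, absurd h4.symm hxne, absurd h4 hxne, rfl]
  refine le_of_eq_of_le ?_ (Nat.card_le_card_of_injective g hg)
  rw [Nat.card_prod, Nat.card_pi, Finset.prod_const, Finset.card_univ, Fintype.card_fin,
    Nat.card_eq_fintype_card (α := Fq), H59.HeSp4.card_F4, Nat.card_eq_fintype_card, Fintype.card_bool,
    pow_succ, pow_mul]
  norm_num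

set_option maxHeartbeats 2000000 in
theorem exists_phase : ∃ c : G → Fq,
    (∀ u ∈ Tw D x, ∀ v ∈ Tw D x, c (u * v) = c u + c v + hermForm m Fq 2 (w v) (w u)) ∧
    c x = 1 ∧
    (∀ u ∈ Tw D x, c u + c u ^ 2 = hermForm m Fq 2 (w u) (w u)) ∧
    (∀ u ∈ Tw D x, Commute f (cj u f) ↔ c u = 0) := by
  classical
  let i₀ : Fin m := ⟨0, lt_of_lt_of_le two_pos Fr.two⟩
  let i₁ : Fin m := ⟨1, lt_of_lt_of_le one_lt_two Fr.two⟩
  have hi : i₀ ≠ i₁ := by simp [i₀, i₁, Fin.ext_iff]
  -- isotropic vectors of weight two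
  let pr : Fin m → Fin m → Fq → Fq → Fin m → Fq := fun i j a b => Pi.single i a + Pi.single j b
  have hpr : ∀ {i j a b}, i ≠ j → a ≠ 0 → b ≠ 0 →
      hermForm m Fq 2 (pr i j a b) (pr i j a b) = 0 ∧ pr i j a b ≠ 0 := by
    intro i j a b hij ha hb
    have key : ∀ a b : Fq, a ≠ 0 → b ≠ 0 → a * a ^ 2 + b * b ^ 2 = 0 := by decide
    refine ⟨?_, fun h => ha ?_⟩
    · simp only [pr, herm_self_add fq_card, herm_single_left, Pi.single_eq_same,
        Pi.single_eq_of_ne hij, zero_pow two_ne_zero, mul_zero, add_zero]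
      exact key a b ha hb
    · simpa [pr, Pi.single_eq_of_ne hij] using congrFun h i
  have hneg : ∀ k : Fq, k * k = 0 → k = 0 := by decide
  let γ : Fin m → Fq → Fin m → Fq := fun i k =>
    if i = i₀ then pr i₀ i₁ k (k * om) else pr i₀ i k k
  have hγ : ∀ i k, k ≠ 0 → hermForm m Fq 2 (γ i k) (γ i k) = 0 ∧ γ i k ≠ 0 := by
    intro i k hk
    simp only [γ]
    split_ifs with h
    · exact hpr hi hk (mul_ne_zero hk (by decide))
    · exact hpr (Ne.symm h) hk hk
  choose lf hlf hlfw using fun (i : Fin m) (k : Fq) (hk : k ≠ 0) =>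
    P.exists_lift hx hf Fr (hγ i k hk).2 (hγ i k hk).1
  have h1q : (1 : Fq) ≠ 0 := one_ne_zero
  have hoq : om ≠ (0 : Fq) := by decide
  let l : List (G × Heis m) := (List.finRange m).map (fun i => (lf i 1 h1q, ⟨γ i 1, 0⟩)) ++
    (List.finRange m).map (fun i => (lf i om hoq, ⟨γ i om, 0⟩))
  let z : G × Heis m := (x, ⟨0, 1⟩)
  have hl : ∀ p ∈ l, IsLift D x f p.1 ∧ w p.1 = p.2.vec ∧ p.2.ph = 0 := by
    intro p hp
    simp only [l, List.mem_append, List.mem_map, List.mem_finRange, true_and] at hp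
    rcases hp with ⟨i, rfl⟩ | ⟨i, rfl⟩ <;> exact ⟨hlf _ _ _, hlfw _ _ _, rfl⟩
  set N₀ := Subgroup.closure (insert z {p | p ∈ l}) with hN₀
  have hzz : z * z = 1 := Prod.ext (P.sq hx) (Heis.ext (vec_add_self 0) (by
    show (1 : Fq) + 1 + hermForm m Fq 2 0 0 = 0
    rw [herm_zero_left, add_zero, fq_add_self]))
  have hcard : Nat.card N₀ ≤ 2 ^ (2 * m + 1) := by
    refine (H80.TTQuad.card_closure_list hzz l (fun p hp => ?_) fun p hp q hq => ?_).trans
      (le_of_eq (by simp [l, two_mul]))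
    · obtain ⟨h1, h2, h3⟩ := hl p hp
      obtain ⟨hw0, hiso⟩ := P.lift_w hx hf Fr h1
      refine ⟨Prod.ext (P.lift_sq hx hf Fr h1) (Heis.ext (vec_add_self _) ?_),
        Prod.ext (P.commute_x hx (P.lift_mem hx hf h1)).eq (Heis.ext ?_ ?_)⟩
      · show p.2.ph + p.2.ph + hermForm m Fq 2 p.2.vec p.2.vec = 0
        rw [h3, ← h2, hiso, add_zero, add_zero]
      · exact add_comm _ _
      · show p.2.ph + 1 + hermForm m Fq 2 0 p.2.vec = 1 + p.2.ph + hermForm m Fq 2 p.2.vec 0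
        rw [herm_zero_left, herm_zero_right fq_card, add_comm p.2.ph]
    · obtain ⟨hp1, hp2, hp3⟩ := hl p hp
      obtain ⟨hq1, hq2, hq3⟩ := hl q hq
      have hm := P.lift_mem hx hf hp1
      have hinv : p.1 * q.1 * p.1 = cj p.1 q.1 := by
        simp only [cj, inv_eq_of_mul_eq_one_right (P.lift_sq hx hf Fr hp1)]
      have hiso := (P.lift_w hx hf Fr hp1).2
      rw [hp2] at hiso
      have hv : p.2.vec + q.2.vec + p.2.vec = q.2.vec := by
        rw [add_comm p.2.vec, add_assoc, vec_add_self, add_zero]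
      have hph : (p.2 * q.2 * p.2).ph =
          hermForm m Fq 2 (w p.1) (w q.1) + hermForm m Fq 2 (w p.1) (w q.1) ^ 2 := by
        simp only [Heis.mul_ph, Heis.mul_vec, hp3, hq3, add_zero, zero_add, herm_add_right fq_card,
          hiso, hp2, hq2, herm_swap fq_card]
        rw [add_comm]
      by_cases hc : cj p.1 q.1 = q.1
      · left
        refine Prod.ext (hinv.trans hc) (Heis.ext hv (hph.trans ?_))
        rw [hq3]; exact (Fr.trace _ hm _ (P.lift_mem hx hf hq1)).1 hc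
      · right
        refine Prod.ext (hinv.trans ((P.cj_Tw hx hm (P.lift_mem hx hf hq1)).resolve_left hc))
          (Heis.ext (hv.trans (add_zero _).symm) (hph.trans ?_))
        show _ = q.2.ph + 1 + hermForm m Fq 2 0 q.2.vec
        rw [herm_zero_left, hq3, zero_add, add_zero]
        have key : ∀ p : Fq, p + p ^ 2 ≠ 0 → p + p ^ 2 = 1 := by decide
        exact key _ fun h => hc ((Fr.trace _ hm _ (P.lift_mem hx hf hq1)).2 h)
  -- the pairs are compatible
  have hN : ∀ p ∈ N₀, p.1 ∈ Tw D x ∧ p.2.vec = w p.1 ∧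
      p.2.ph + p.2.ph ^ 2 = hermForm m Fq 2 (w p.1) (w p.1) := by
    intro p hp
    refine Subgroup.closure_induction (p := fun p _ => p.1 ∈ Tw D x ∧ p.2.vec = w p.1 ∧
      p.2.ph + p.2.ph ^ 2 = hermForm m Fq 2 (w p.1) (w p.1)) ?_ ?_ ?_ ?_ hp
    · rintro q (rfl | hq)
      · refine ⟨P.mem_x x, Fr.map_x.symm, ?_⟩
        show (1 : Fq) + 1 ^ 2 = _
        rw [Fr.map_x, herm_zero_left]; decide
      · obtain ⟨h1, h2, h3⟩ := hl q hq
        refine ⟨P.lift_mem hx hf h1, h2.symm, ?_⟩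
        rw [h3, (P.lift_w hx hf Fr h1).2]; decide
    · refine ⟨one_mem _, (P.w_one hx hf Fr).symm, ?_⟩
      show (0 : Fq) + 0 ^ 2 = hermForm m Fq 2 (w 1) (w 1)
      rw [P.w_one hx hf Fr, herm_zero_left]; decide
    · rintro a b - - ⟨ha, ha', ha''⟩ ⟨hb, hb', hb''⟩
      refine ⟨mul_mem ha hb, ?_, ?_⟩
      · show a.2.vec + b.2.vec = _
        rw [Prod.fst_mul, Fr.mul _ ha _ hb, ha', hb']
      · simp only [Prod.snd_mul, Heis.mul_ph]
        rw [Prod.fst_mul, Fr.mul _ ha _ hb, herm_self_add fq_card, ← ha'', ← hb'', ha', hb',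
          ← herm_swap fq_card (w a.1) (w b.1)]
        have key : ∀ p q r : Fq,
            p + q + r ^ 2 + (p + q + r ^ 2) ^ 2 = p + p ^ 2 + (q + q ^ 2) + (r + r ^ 2) := by decide
        exact key _ _ _
    · rintro a - ⟨ha, ha', ha''⟩
      refine ⟨inv_mem ha, ?_, ?_⟩
      · show a.2.vec = _
        rw [Prod.fst_inv, P.w_inv hx hf Fr ha, ha']
      · simp only [Prod.snd_inv, Heis.inv_ph]
        rw [Prod.fst_inv, P.w_inv hx hf Fr ha, ha', ← ha'']
        have key : ∀ p : Fq, p + (p + p ^ 2) + (p + (p + p ^ 2)) ^ 2 = p + p ^ 2 := by decide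
        exact key _
  let S : Subgroup G := N₀.map (MonoidHom.fst G (Heis m))
  have hzS : x ∈ S := ⟨z, Subgroup.subset_closure (Set.mem_insert _ _), rfl⟩
  have hlfS : ∀ i, lf i 1 h1q ∈ S ∧ lf i om hoq ∈ S := fun i =>
    ⟨⟨_, Subgroup.subset_closure (Set.mem_insert_of_mem _
      (show _ ∈ l from List.mem_append_left _ (List.mem_map.2 ⟨i, List.mem_finRange i, rfl⟩))), rfl⟩,
     ⟨_, Subgroup.subset_closure (Set.mem_insert_of_mem _
      (show _ ∈ l from List.mem_append_right _ (List.mem_map.2 ⟨i, List.mem_finRange i, rfl⟩))), rfl⟩⟩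
  let V : Set (Fin m → Fq) := {a | ∃ u ∈ S, u ∈ Tw D x ∧ w u = a}
  have hVadd : ∀ {a b}, a ∈ V → b ∈ V → a + b ∈ V := by
    rintro _ _ ⟨u, hu, hu', rfl⟩ ⟨v, hv, hv', rfl⟩
    exact ⟨u * v, mul_mem hu hv, mul_mem hu' hv', Fr.mul _ hu' _ hv'⟩
  have hV0 : (0 : Fin m → Fq) ∈ V := ⟨1, one_mem _, one_mem _, P.w_one hx hf Fr⟩
  have hγlin : ∀ i k k', γ i (k + k') = γ i k + γ i k' := by
    intro i k k'
    simp only [γ, pr]
    split_ifs <;> simp only [add_mul, Pi.single_add] <;> abel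
  have hγ0 : ∀ i, γ i 0 = 0 := fun i => by simp [γ, pr]
  have hVγ : ∀ i k, γ i k ∈ V := by
    intro i k
    rcases fq_cases k with rfl | rfl | rfl | rfl
    · rw [hγ0]; exact hV0
    · exact ⟨_, (hlfS i).1, P.lift_mem hx hf (hlf _ _ _), hlfw _ _ _⟩
    · exact ⟨_, (hlfS i).2, P.lift_mem hx hf (hlf _ _ _), hlfw _ _ _⟩
    · rw [hγlin]
      exact hVadd ⟨_, (hlfS i).1, P.lift_mem hx hf (hlf _ _ _), hlfw _ _ _⟩
        ⟨_, (hlfS i).2, P.lift_mem hx hf (hlf _ _ _), hlfw _ _ _⟩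
  have hγi₀ : ∀ k, γ i₀ k = pr i₀ i₁ k (k * om) := fun k => if_pos rfl
  have hγi : ∀ {i}, i ≠ i₀ → ∀ k, γ i k = pr i₀ i k k := fun hi k => if_neg hi
  have hsingle : ∀ i k, Pi.single i k ∈ V := by
    have h1 : ∀ k, Pi.single i₁ k ∈ V := by
      intro k
      have h2 := hVadd (hVγ i₀ (k * om)) (hVγ i₁ (k * om))
      rw [hγi₀, hγi hi.symm] at h2
      convert h2 using 1
      simp only [pr]
      rw [add_add_add_comm, vec_add_self, zero_add, ← Pi.single_add]
      congr 1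
      exact (show ∀ k : Fq, k = k * om * om + k * om by decide) k
    have h0 : ∀ k, Pi.single i₀ k ∈ V := by
      intro k
      have h2 := hVadd (hVγ i₁ k) (h1 k)
      rw [hγi hi.symm] at h2
      simp only [pr] at h2
      rwa [add_assoc, vec_add_self, add_zero] at h2
    intro i k
    by_cases hii : i = i₀
    · exact hii ▸ h0 k
    have h2 := hVadd (hVγ i k) (h0 k)
    rw [hγi hii] at h2
    simp only [pr] at h2
    rwa [add_comm (Pi.single i₀ k : Fin m → Fq), add_assoc, vec_add_self, add_zero] at h2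
  have hVall : ∀ a : Fin m → Fq, a ∈ V := fun a => by
    rw [← Finset.univ_sum_single a]
    exact Finset.sum_induction _ (· ∈ V) (fun _ _ => hVadd) hV0 fun i _ => hsingle i _
  have hST : Tw D x ≤ S := by
    intro u hu
    obtain ⟨v, hv, hv', hwe⟩ := hVall (w u)
    rcases P.w_eq hx hf Fr hv' hu hwe with rfl | rfl
    exacts [hv, mul_mem hv hzS]
  have hinj : ∀ {p q : G × Heis m}, p ∈ N₀ → q ∈ N₀ → p.1 = q.1 → p.2 = q.2 := by
    intro p q hp hq he
    have hcS : Nat.card N₀ ≤ Nat.card S :=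
      hcard.trans ((P.two_pow_le_card hx hf Fr).trans (Subgroup.card_le_of_le hST))
    let π : N₀ → S := fun r => ⟨(r : G × Heis m).1, r, r.2, rfl⟩
    have hπ : Function.Surjective π := by
      rintro ⟨g, r, hr, rfl⟩; exact ⟨⟨r, hr⟩, rfl⟩
    have hb := (Function.Surjective.bijective_of_nat_card_le hπ hcS).1
    exact congrArg (fun r : N₀ => (r : G × Heis m).2) (hb (a₁ := ⟨p, hp⟩) (a₂ := ⟨q, hq⟩) (Subtype.ext he))
  have hex : ∀ u ∈ Tw D x, ∃ p : Heis m, (u, p) ∈ N₀ := fun u hu => by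
    obtain ⟨⟨g, p⟩, hp, rfl⟩ := hST hu
    exact ⟨p, hp⟩
  let c : G → Fq := fun u => if h : ∃ p : Heis m, (u, p) ∈ N₀ then h.choose.ph else 0
  have hc : ∀ {u p}, (u, p) ∈ N₀ → c u = p.ph := by
    intro u p hp
    show dite _ _ _ = _
    rw [dif_pos ⟨p, hp⟩]
    exact congrArg Heis.ph (hinj (Exists.choose_spec (⟨p, hp⟩ : ∃ q, (u, q) ∈ N₀)) hp rfl)
  have hmul : ∀ u ∈ Tw D x, ∀ v ∈ Tw D x, c (u * v) = c u + c v + hermForm m Fq 2 (w v) (w u) := by
    intro u hu v hv
    obtain ⟨p, hp⟩ := hex u hu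
    obtain ⟨q, hq⟩ := hex v hv
    rw [hc hp, hc hq, hc (show (u * v, p * q) ∈ N₀ from mul_mem hp hq)]
    show _ = _
    rw [Heis.mul_ph, (hN _ hp).2.1, (hN _ hq).2.1]
  -- the lifts have phase zero
  let C : Set (Fin m → Fq) := {a | a ≠ 0 ∧ hermForm m Fq 2 a a = 0 ∧
    ∀ v, IsLift D x f v → w v = a → (v, (⟨a, 0⟩ : Heis m)) ∈ N₀}
  have hCγ : ∀ i, γ i 1 ∈ C ∧ γ i om ∈ C := fun i => by
    refine ⟨⟨(hγ i 1 h1q).2, (hγ i 1 h1q).1, fun v hv hwv => ?_⟩,
      ⟨(hγ i om hoq).2, (hγ i om hoq).1, fun v hv hwv => ?_⟩⟩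
    · rw [P.lift_unique hx hf Fr (hlf i 1 h1q) hv ((hlfw i 1 h1q).trans hwv.symm)]
      exact Subgroup.subset_closure (Set.mem_insert_of_mem _
        (show _ ∈ l from List.mem_append_left _ (List.mem_map.2 ⟨i, List.mem_finRange i, rfl⟩)))
    · rw [P.lift_unique hx hf Fr (hlf i om hoq) hv ((hlfw i om hoq).trans hwv.symm)]
      exact Subgroup.subset_closure (Set.mem_insert_of_mem _
        (show _ ∈ l from List.mem_append_right _ (List.mem_map.2 ⟨i, List.mem_finRange i, rfl⟩)))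
  have hCadd : ∀ {a b}, a ∈ C → b ∈ C → a + b ≠ 0 → hermForm m Fq 2 (a + b) (a + b) = 0 →
      a + b ∈ C := by
    rintro a b ⟨ha0, ha, hA⟩ ⟨hb0, hb, hB⟩ hne hiso
    refine ⟨hne, hiso, fun v hv hwv => ?_⟩
    obtain ⟨p, hp, rfl⟩ := P.exists_lift hx hf Fr ha0 ha
    obtain ⟨q, hq, rfl⟩ := P.exists_lift hx hf Fr hb0 hb
    have hpm := P.lift_mem hx hf hp
    have hqm := P.lift_mem hx hf hq
    have hpq : (p * q, (⟨w p, 0⟩ * ⟨w q, 0⟩ : Heis m)) ∈ N₀ :=
      mul_mem (hA p hp rfl) (hB q hq rfl)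
    rw [herm_self_add fq_card, ha, hb, add_zero, zero_add] at hiso
    have hswap : hermForm m Fq 2 (w q) (w p) = hermForm m Fq 2 (w p) (w q) ^ 2 :=
      (herm_swap fq_card (w p) (w q)).symm
    rcases fq_iso_cases _ hiso with h | h
    · rw [P.lift_unique hx hf Fr (P.mul_lift hx hf Fr hp hq h hne) hv (by rw [Fr.mul _ hpm _ hqm, hwv])]
      convert hpq using 2
      ext1
      · rfl
      · show (0 : Fq) = 0 + 0 + hermForm m Fq 2 (w q) (w p)
        rw [hswap, h]; decide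
    · rw [P.lift_unique hx hf Fr (P.mul_lift_one hx hf Fr hp hq h) hv (by
        rw [Fr.mul _ (mul_mem hpm hqm) _ (P.mem_x x), Fr.mul _ hpm _ hqm, Fr.map_x, add_zero, hwv])]
      have he2 : (⟨w p + w q, 0⟩ : Heis m) = ⟨w p, 0⟩ * ⟨w q, 0⟩ * ⟨0, 1⟩ := by
        ext1
        · exact (add_zero _).symm
        · show (0 : Fq) = 0 + 0 + hermForm m Fq 2 (w q) (w p) + 1 + hermForm m Fq 2 0 _
          rw [hswap, h, herm_zero_left]; decide
      rw [he2]
      exact mul_mem hpq (Subgroup.subset_closure (Set.mem_insert z {p | p ∈ l}))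
  have hprlin : ∀ {i j a b a' b'}, pr i j a b + pr i j a' b' = pr i j (a + a') (b + b') := by
    intros; simp only [pr, Pi.single_add]; abel
  have hC2γ : ∀ i, i ≠ i₀ → ∀ k, k ≠ 0 → pr i₀ i k k ∈ C := by
    intro i hii k hk
    rcases fq_cases k with rfl | rfl | rfl | rfl
    · exact absurd rfl hk
    · exact hγi hii (1 : Fq) ▸ (hCγ i).1
    · exact hγi hii om ▸ (hCγ i).2
    · rw [← hprlin]
      exact hCadd (hγi hii (1 : Fq) ▸ (hCγ i).1) (hγi hii om ▸ (hCγ i).2)
        (by rw [hprlin]; exact (hpr (Ne.symm hii) (by decide) (by decide)).2)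
        (by rw [hprlin]; exact (hpr (Ne.symm hii) (by decide) (by decide)).1)
  have hC2om : ∀ k, k ≠ 0 → pr i₀ i₁ k (k * om) ∈ C := by
    intro k hk
    rcases fq_cases k with rfl | rfl | rfl | rfl
    · exact absurd rfl hk
    · exact hγi₀ (1 : Fq) ▸ (hCγ i₀).1
    · exact hγi₀ om ▸ (hCγ i₀).2
    · rw [add_mul, ← hprlin]
      exact hCadd (hγi₀ (1 : Fq) ▸ (hCγ i₀).1) (hγi₀ om ▸ (hCγ i₀).2)
        (by rw [hprlin]; exact (hpr hi (by decide) (by decide)).2)
        (by rw [hprlin]; exact (hpr hi (by decide) (by decide)).1)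
  have h01 : ∀ a b, a ≠ 0 → b ≠ 0 → pr i₀ i₁ a b ∈ C := by
    intro a b ha hb
    have key : ∀ a b : Fq, a ≠ 0 → b ≠ 0 → b = a ∨ b = a * om ∨
        ∃ k k', k ≠ 0 ∧ k' ≠ 0 ∧ k + k' = a ∧ k + k' * om = b := by decide
    rcases key a b ha hb with rfl | rfl | ⟨k, k', hk, hk', rfl, rfl⟩
    · exact hC2γ i₁ hi.symm b hb
    · exact hC2om a ha
    · rw [← hprlin]
      exact hCadd (hC2γ i₁ hi.symm k hk) (hC2om k' hk') (by rw [hprlin]; exact (hpr hi ha hb).2)
        (by rw [hprlin]; exact (hpr hi ha hb).1)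
  have hpr_comm : ∀ i j a b, pr i j a b = pr j i b a := fun i j a b => add_comm _ _
  have hsum2 : ∀ {i j k : Fin m} {a b c : Fq}, pr i j a b + pr i k a c = pr j k b c := by
    intros i j k a b c
    simp only [pr]
    rw [add_add_add_comm, vec_add_self, zero_add]
  have hC2 : ∀ i j a b, i ≠ j → a ≠ 0 → b ≠ 0 → pr i j a b ∈ C := by
    have join : ∀ {i j k a b c}, pr i j a b ∈ C → pr i k a c ∈ C → j ≠ k → b ≠ 0 → c ≠ 0 →
        pr j k b c ∈ C := by
      intro i j k a b c h h' hjk hb hc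
      rw [← hsum2 (i := i) (a := a)]
      exact hCadd h h' (by rw [hsum2]; exact (hpr hjk hb hc).2) (by rw [hsum2]; exact (hpr hjk hb hc).1)
    have h1k : ∀ k, k ≠ i₀ → k ≠ i₁ → ∀ a b, a ≠ 0 → b ≠ 0 → pr i₁ k a b ∈ C :=
      fun k h h' a b ha hb => join (h01 b a hb ha) (hC2γ k h b hb) (Ne.symm h') ha hb
    have h0k : ∀ k, k ≠ i₀ → ∀ a b, a ≠ 0 → b ≠ 0 → pr i₀ k a b ∈ C := by
      intro k h a b ha hb
      by_cases h' : k = i₁
      · exact h'.symm ▸ h01 a b ha hb
      exact join (i := i₁) (hpr_comm i₁ i₀ 1 a ▸ h01 a 1 ha h1q) (h1k k h h' 1 b h1q hb) (Ne.symm h) ha hb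
    intro i j a b hij ha hb
    by_cases h : i = i₀
    · subst h; exact h0k j (Ne.symm hij) a b ha hb
    by_cases h' : j = i₀
    · subst h'; rw [hpr_comm]; exact h0k i h b a hb ha
    exact join (h0k i h 1 a h1q ha) (h0k j h' 1 b h1q hb) hij ha hb
  have hCall : ∀ n, ∀ a : Fin m → Fq, (Finset.univ.filter fun i => a i ≠ 0).card ≤ n → a ≠ 0 →
      hermForm m Fq 2 a a = 0 → a ∈ C := by
    intro n
    induction n with
    | zero =>
      intro a hcard ha0 _
      refine absurd (funext fun i => ?_) ha0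
      by_contra hne
      exact Finset.notMem_empty i (Finset.card_eq_zero.1 (Nat.le_zero.1 hcard) ▸
        Finset.mem_filter.2 ⟨Finset.mem_univ i, hne⟩)
    | succ n ih =>
      intro a hcard ha0 hiso
      obtain ⟨i, hai⟩ := Function.ne_iff.1 ha0
      obtain ⟨j, hji, haj⟩ : ∃ j, j ≠ i ∧ a j ≠ 0 := by
        by_contra hall
        push Not at hall
        have h1 : hermForm m Fq 2 a a = a i * a i ^ 2 :=
          Finset.sum_eq_single i (fun j _ hj => by rw [hall j hj, zero_mul]) (by simp)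
        rw [h1] at hiso
        exact hai (by rcases mul_eq_zero.1 hiso with h | h; exacts [h, eq_zero_of_pow_eq_zero h])
      set p := pr i j (a i) (a j) with hp
      obtain ⟨hpiso, hp0⟩ := hpr (Ne.symm hji) hai haj
      have hpC := hC2 i j (a i) (a j) (Ne.symm hji) hai haj
      by_cases hrest : a + p = 0
      · rw [vec_eq_of_add hrest]; exact hpC
      have hrecover : a + p + p = a := by rw [add_assoc, vec_add_self, add_zero]
      have hrest_iso : hermForm m Fq 2 (a + p) (a + p) = 0 := by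
        rw [herm_self_add fq_card, hiso, hpiso]
        simp only [hp, pr, herm_add_right fq_card, herm_single_right fq_card]
        have key : ∀ a b : Fq, a ≠ 0 → b ≠ 0 →
            0 + 0 + (a * a ^ 2 + b * b ^ 2 + (a * a ^ 2 + b * b ^ 2) ^ 2) = 0 := by decide
        exact key _ _ hai haj
      have hlt : (Finset.univ.filter fun k => (a + p) k ≠ 0).card <
          (Finset.univ.filter fun k => a k ≠ 0).card := by
        refine Finset.card_lt_card (Finset.ssubset_iff_of_subset ?_ |>.2 ⟨i, by simpa using hai, ?_⟩)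
        · intro k hk
          simp only [Finset.mem_filter, Finset.mem_univ, true_and] at hk ⊢
          intro hk0
          refine hk ?_
          have h1 : k ≠ i := fun e => hai (e ▸ hk0)
          have h2 : k ≠ j := fun e => haj (e ▸ hk0)
          simp [hp, pr, hk0, Pi.single_eq_of_ne h1, Pi.single_eq_of_ne h2]
        · simp [hp, pr, Pi.single_eq_of_ne (Ne.symm hji), fq_add_self]
      rw [← hrecover]
      exact hCadd (ih _ (by omega) hrest hrest_iso) hpC (by rw [hrecover]; exact ha0)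
        (by rw [hrecover]; exact hiso)
  have hclift : ∀ {v}, IsLift D x f v → c v = 0 := by
    intro v hv
    obtain ⟨h0, hiso⟩ := P.lift_w hx hf Fr hv
    exact hc ((hCall _ (w v) le_rfl h0 hiso).2.2 v hv rfl)
  have hcx : c x = 1 := hc (p := ⟨0, 1⟩) (Subgroup.subset_closure (Set.mem_insert z _))
  have hc1 : c 1 = 0 := hc (p := 1) (one_mem N₀)
  refine ⟨c, hmul, hcx, fun u hu => ?_, fun u hu => ?_⟩
  · obtain ⟨p, hp⟩ := hex u hu
    rw [hc hp]; exact (hN _ hp).2.2
  rcases P.Tw_cases hx hf hu with rfl | rfl | h | ⟨v, v', hv, hv', rfl, hnc⟩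
  · simp [cj_one, hc1]
  · rw [hcx]
    exact iff_of_false (fun h => (P.not_commute_cj hx hf.1 hf.2).1 h) one_ne_zero
  · exact iff_of_true (P.lift_commute hx hf h) (hclift h)
  · refine iff_of_false hnc ?_
    rw [hmul _ (P.lift_mem hx hf hv) _ (P.lift_mem hx hf hv'), hclift hv, hclift hv', zero_add,
      zero_add, ← herm_swap fq_card (w v) (w v')]
    exact pow_ne_zero 2 fun h => hnc ((P.commute_prod_iff hx hf Fr hv hv').2 h)

end Five

end Cfsg.Agent.H80.TTPolar
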