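import Cfsg.Agent.H80.TTPolar.Lines

/-!
Lines of five points: the products of pairs on the lines through `x` act as translations of these
lines and regularly on the members not commuting with `x`.
-/

set_option autoImplicit false
set_option linter.unusedSectionVars false

namespace Cfsg.Agent.H80.TTPolar

open Cfsg
open H76.LocallyS3 (nb cj cj_cj cj_injective commute_cj_iff)
open H80.TTQuad (Cls B OnLine T far cjOrb cj_one cj_inv_cj cj_cj_inv cj_eq_of_commute
  commute_of_cj_eq nb_symm cj_mul_self mem_T_of_commute far_symm cj_mem_of_closure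
  card_eq_ncard_mul ne_of_not_commute)

universe u

variable {G : Type u} [Group G] {D : Set G}

/-- All lines have five points. -/
structure Five (D : Set G) : Prop extends Polar D where
  five : ∀ p ∈ D, ∀ q ∈ nb D p, (Ln D p q).ncard = 5

/-- The group of products of pairs on the lines through `x`, with `x`. -/
def Tw (D : Set G) (x : G) : Subgroup G :=
  Subgroup.closure (insert x {g : G | ∃ d ∈ nb D x, ∃ e ∈ Ln D x d, e ≠ x ∧ g = d * e})

/-- The elements moving `f` to its collinear points. -/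
def IsLift (D : Set G) (x f v : G) : Prop :=
  ∃ t ∈ T D x f, ∃ y ∈ Ln D x t, y ≠ x ∧ y ≠ t ∧ v = t * y * x

theorem cj_mul (g p q : G) : cj g (p * q) = cj g p * cj g q := by simp [cj]

/-- A closed set of pairwise noncommuting members has `3`-power order. -/
theorem three_pow_of_closed [Finite G] (H : Cls D) {S : Set G} (hS : S ⊆ D)
    (hcl : ∀ a ∈ S, ∀ b ∈ S, cj a b ∈ S) (hnc : ∀ a ∈ S, ∀ b ∈ S, Commute a b → a = b)
    (hne : S.Nonempty) : ∃ k, S.ncard = 3 ^ k := by
  have : Fact (Nat.Prime 3) := ⟨Nat.prime_three⟩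
  set K := Subgroup.closure {z | ∃ a ∈ S, ∃ b ∈ S, z = a * b} with hK
  have hp : IsPGroup 3 K := Components.isPGroup_closure_products Components.zStarTheorem
    (fun a ha => H.cl.1.1 a (hS ha)) (fun a ha b hb => by
      have h := hcl a ha b hb
      rwa [cj, H.inv' (hS ha)] at h) (fun a ha b hb => by
      by_cases h : Commute a b
      · rw [hnc a ha b hb h, H.sq (hS hb), one_pow]
      · exact H.cube (hS ha) (hS hb) h)
  obtain ⟨t, ht⟩ := hne
  have horb : cjOrb K t = S := by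
    refine Set.Subset.antisymm ?_ fun u hu => ?_
    · rintro _ ⟨k, hk, rfl⟩
      refine cj_mem_of_closure ?_ hk ht
      rintro _ ⟨a, ha, b, hb, rfl⟩ w hw
      rw [← cj_cj]
      exact hcl a ha _ (hcl b hb w hw)
    · refine ⟨t * u, Subgroup.subset_closure ⟨t, ht, u, hu, rfl⟩, ?_⟩
      by_cases h : Commute t u
      · rw [hnc t ht u hu h, H.sq (hS hu), cj_one]
      · rw [← cj_cj, H.braid (hS hu) (hS ht) fun q => h q.symm, H.cj_invol (hS ht)]
  obtain ⟨k, hk⟩ := hp.exists_card_eq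
  obtain ⟨j, -, hj⟩ := (Nat.dvd_prime_pow Nat.prime_three).1
    (show (cjOrb K t).ncard ∣ 3 ^ k from hk ▸ ⟨_, card_eq_ncard_mul K t⟩)
  exact ⟨j, horb ▸ hj⟩

namespace Five

variable [Finite G] (P : Five D)
include P

theorem mem_x (x : G) : x ∈ Tw D x := Subgroup.subset_closure (Set.mem_insert _ _)

theorem mem_twin {x d e : G} (hd : d ∈ nb D x) (he : e ∈ Ln D x d) (hex : e ≠ x) :
    d * e ∈ Tw D x :=
  Subgroup.subset_closure (Set.mem_insert_of_mem _ ⟨d, hd, e, he, hex, rfl⟩)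

variable {x : G} (hx : x ∈ D)
include hx

theorem commute_x {u : G} (hu : u ∈ Tw D x) : Commute u x :=
  Subgroup.closure_induction (fun z hz => by
    rcases hz with rfl | ⟨d, hd, e, he, hex, rfl⟩
    · exact Commute.refl _
    · exact hd.2.2.symm.mul_left (P.mem_B hx hd he).2.1)
    (Commute.one_left x) (fun _ _ _ _ h h' => h.mul_left h') (fun _ _ h => h.inv_left) hu

theorem Ln_back {t y : G} (ht : t ∈ nb D x) (hy : y ∈ Ln D x t) (hyx : y ≠ x) :
    t ∈ Ln D x y := by
  rw [P.Ln_eq hx ht hy hyx]; exact P.right_mem ht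

/-- Points of one line through `x` commute with the same members. -/
theorem commute_iff_of_Ln {t y a : G} (ht : t ∈ nb D x) (hy : y ∈ Ln D x t) (hyx : y ≠ x)
    (ha : a ∈ nb D x) : Commute a y ↔ Commute a t :=
  ⟨fun h => P.commute_all hx ht (P.left_mem hx) hy hyx.symm ha.1 ha.2.2.symm h (P.right_mem ht),
    fun h => P.commute_all hx ht (P.left_mem hx) (P.right_mem ht) ht.2.1.symm ha.1 ha.2.2.symm h hy⟩

theorem cj_Tw_line {u a : G} (hu : u ∈ Tw D x) (ha : a ∈ nb D x) :
    cj u a ∈ Ln D x a ∧ cj u a ≠ x := by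
  refine cj_mem_of_closure (S := {b : G | b ∈ Ln D x a ∧ b ≠ x}) (fun g hg b hb => ?_) hu
    ⟨P.right_mem ha, ha.2.1⟩
  have hbn := P.mem_nb hx ha hb.1 hb.2
  rcases hg with rfl | ⟨d, hd, e, he, hex, rfl⟩
  · rwa [cj_eq_of_commute hbn.2.2]
  by_cases hbd : Commute b d
  · rwa [cj_eq_of_commute (hbd.symm.mul_left ((P.commute_iff_of_Ln hx hd he hex hbn).2 hbd).symm)]
  · obtain ⟨h1, h2, -⟩ := P.pair_move hx hbn hd he hex hbd
    exact ⟨P.Ln_eq hx ha hb.1 hb.2 ▸ h2, h1.2.1⟩

theorem x_mul_not_mem {y : G} (hy : y ∈ nb D x) : x * y ∉ D := by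
  classical
  intro hd
  set d := x * y with hdd
  have hdy : Commute d y := hy.2.2.mul_left (Commute.refl y)
  have hdl : d ∈ Ln D x y := ⟨hd, fun w hw => (hw.2.1.mul_right hw.2.2).symm⟩
  have hdx : d ≠ x := fun e => H44.tt_ne_one P.cl.1 hy.1 (mul_left_cancel (e.trans (mul_one x).symm))
  have hdne : d ≠ y := fun e => H44.tt_ne_one P.cl.1 hx (mul_right_cancel (e.trans (one_mul y).symm))
  have hs : ({x, y, d} : Set G).ncard = 3 :=
    Set.ncard_eq_three.2 ⟨x, y, d, hy.2.1.symm, hdx.symm, hdne.symm, rfl⟩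
  obtain ⟨b, b', hbb, hset⟩ : ∃ b b', b ≠ b' ∧ Ln D x y \ {x, y, d} = {b, b'} := by
    refine Set.ncard_eq_two.1 ?_
    rw [Set.ncard_sdiff (by
      rintro w (rfl | rfl | rfl)
      exacts [P.left_mem hx, P.right_mem hy, hdl]) (Set.toFinite _), hs, P.five x hx y hy]
  have hb : b ∈ Ln D x y \ {x, y, d} := hset ▸ Or.inl rfl
  have hb' : b' ∈ Ln D x y \ {x, y, d} := hset ▸ Or.inr rfl
  simp only [Set.mem_sdiff, Set.mem_insert_iff, Set.mem_singleton_iff, not_or] at hb hb'
  have h := P.five_prod hx hy hdl hb.1 hb'.1 hdx hb.2.1 hb'.2.1 hdne.symm (Ne.symm hb.2.2.1)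
    (Ne.symm hb'.2.2.1) (Ne.symm hb.2.2.2) (Ne.symm hb'.2.2.2) hbb
  rw [hdd, ← mul_assoc y x, ← hy.2.2.eq, mul_assoc x y y, P.sq hy.1, mul_one, ← mul_assoc x x,
    P.sq hx, one_mul] at h
  exact hbb ((eq_inv_of_mul_eq_one_left h).trans (P.inv' hb'.1.1))

/-- The products on another line change at most by `x`. -/
theorem cj_twin {u d e : G} (hu : u ∈ Tw D x) (hd : d ∈ nb D x) (he : e ∈ Ln D x d) (hex : e ≠ x) :
    cj u (d * e) = d * e ∨ cj u (d * e) = d * e * x := by
  have hde : Commute x (d * e) := hd.2.2.mul_right (P.mem_nb hx hd he hex).2.2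
  refine cj_mem_of_closure (S := {w | w = d * e ∨ w = d * e * x}) (fun g hg w hw => ?_) hu (Or.inl rfl)
  suffices h : cj g (d * e) = d * e ∨ cj g (d * e) = d * e * x by
    have hgx : cj g x = x := cj_eq_of_commute (P.commute_x hx (Subgroup.subset_closure hg))
    rcases hw with rfl | rfl
    · exact h
    · rcases h with h | h <;> rw [Set.mem_ofPred_eq, cj_mul, hgx, h]
      · exact Or.inr rfl
      · left; rw [mul_assoc _ x x, P.sq hx, mul_one]
  rcases hg with rfl | ⟨p₁, hp₁, p₂, hp₂, hp₂x, rfl⟩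
  · exact Or.inl (cj_eq_of_commute hde)
  have hen := P.mem_nb hx hd he hex
  have hp₂n := P.mem_nb hx hp₁ hp₂ hp₂x
  by_cases hpq : Commute d p₁
  · left
    have h12 := (P.commute_iff_of_Ln hx hp₁ hp₂ hp₂x hd).2 hpq
    have h21 := (P.commute_iff_of_Ln hx hd he hex hp₁).2 hpq.symm
    have h22 := (P.commute_iff_of_Ln hx hd he hex hp₂n).2 h12.symm
    exact cj_eq_of_commute ((hpq.symm.mul_right h21).mul_left (h12.symm.mul_right h22))
  by_cases hp12 : p₁ = p₂
  · left; subst hp12; rw [P.sq hp₁.1, cj_one]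
  by_cases hde' : d = e
  · left; subst hde'; rw [P.sq hd.1]; simp [cj]
  have hnc2 : ¬ Commute e p₁ := fun h => hpq
    ((P.commute_iff_of_Ln hx hd he hex hp₁).1 h.symm).symm
  obtain ⟨a1, a2, a3⟩ := P.pair_move hx hd hp₁ hp₂ hp₂x hpq
  obtain ⟨b1, b2, b3⟩ := P.pair_move hx hen hp₁ hp₂ hp₂x hnc2
  have hsq := P.pair_mul_self hp₁.1 hp₂.1 (P.mem_B hx hp₁ hp₂).2.2.symm
  rw [cj_mul]
  set r₁ := cj (p₁ * p₂) d with hr₁
  set r₂ := cj (p₁ * p₂) e with hr₂
  rw [P.Ln_eq hx hd he hex] at b2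
  by_cases hswap : r₁ = e
  · left
    have h2 : r₂ = d := by rw [hr₂, ← hswap, hr₁, cj_mul_self hsq]
    rw [hswap, h2, (P.mem_B hx hd he).2.2.eq]
  right
  have d14 : d ≠ r₂ := fun h => hswap (by
    rw [hr₁, h, hr₂, cj_mul_self hsq])
  have h := P.five_prod hx hd he a2 b2 hex a1.2.1 b1.2.1 hde' (fun h => hp12 (a3 h.symm)) d14
    (Ne.symm hswap) (fun h => hp12 (b3 h.symm)) (fun h => hde' (cj_injective _ h))
  have h3 : r₁ * r₂ = (d * e)⁻¹ * x⁻¹ := by
    rw [← mul_inv_rev, eq_inv_iff_mul_eq_one]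
    have hc : Commute (x * (d * e)) (r₁ * r₂) :=
      (a1.2.2.mul_right b1.2.2).mul_left
        (((P.clique hx hd (P.right_mem hd) a2).mul_right (P.clique hx hd (P.right_mem hd) b2)).mul_left
          ((P.clique hx hd he a2).mul_right (P.clique hx hd he b2)))
    rw [← hc.eq, mul_assoc, h]
  rw [h3, inv_eq_of_mul_eq_one_right (P.pair_mul_self hd.1 hen.1 (P.mem_B hx hd he).2.2.symm), P.inv' hx]

theorem cj_Tw {u v : G} (hu : u ∈ Tw D x) (hv : v ∈ Tw D x) :
    cj u v = v ∨ cj u v = v * x := by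
  have hux : cj u x = x := cj_eq_of_commute (P.commute_x hx hu)
  refine Subgroup.closure_induction (p := fun v _ => cj u v = v ∨ cj u v = v * x) ?_ ?_ ?_ ?_ hv
  · rintro z (rfl | ⟨d, hd, e, he, hex, rfl⟩)
    exacts [Or.inl hux, P.cj_twin hx hu hd he hex]
  · left; simp [cj]
  · intro a b _ hb iha ihb
    have hbx : x * b = b * x := (P.commute_x hx hb).eq.symm
    rcases iha with h | h <;> rcases ihb with h' | h' <;> rw [cj_mul, h, h']
    · exact Or.inl rfl
    · exact Or.inr (mul_assoc _ _ _).symm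
    · right; rw [mul_assoc, hbx, ← mul_assoc]
    · left; rw [mul_assoc, ← mul_assoc x, hbx, mul_assoc b, P.sq hx, mul_one]
  · intro a ha ih
    have h1 : cj u a⁻¹ = (cj u a)⁻¹ := by simp [cj, mul_assoc]
    rw [h1]
    rcases ih with h | h <;> rw [h]
    · exact Or.inl rfl
    · right
      rw [mul_inv_rev, P.inv' hx]
      exact ((P.commute_x hx ha).inv_left).eq.symm

theorem sq_Tw {v : G} (hv : v ∈ Tw D x) : v * v = 1 ∨ v * v = x := by
  refine Subgroup.closure_induction (p := fun v _ => v * v = 1 ∨ v * v = x) ?_ ?_ ?_ ?_ hv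
  · rintro z (rfl | ⟨d, hd, e, he, hex, rfl⟩)
    · exact Or.inl (P.sq hx)
    · exact Or.inl (P.pair_mul_self hd.1 he.1 (P.mem_B hx hd he).2.2.symm)
  · exact Or.inl (one_mul 1)
  · intro a b ha hb iha ihb
    have hbb : Commute (b * b) x := (P.commute_x hx hb).mul_left (P.commute_x hx hb)
    have key : a * b * (a * b) = a * cj b a * (b * b) := by
      simp only [cj]
      rw [mul_assoc a (b * a * b⁻¹) (b * b), mul_assoc (b * a) b⁻¹ (b * b), inv_mul_cancel_left]
      group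
    rw [key]
    rcases P.cj_Tw hx hb ha with h | h <;> rw [h]
    · rcases iha with h1 | h1 <;> rcases ihb with h2 | h2 <;> rw [h1, h2]
      exacts [Or.inl (one_mul 1), Or.inr (one_mul x), Or.inr (mul_one x), Or.inl (P.sq hx)]
    · rw [← mul_assoc a a x]
      rcases iha with h1 | h1 <;> rcases ihb with h2 | h2 <;> rw [h1, h2]
      · right; rw [one_mul, mul_one]
      · left; rw [one_mul, P.sq hx]
      · left; rw [mul_one, P.sq hx]
      · right; rw [P.sq hx, one_mul]
  · intro a _ ih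
    rcases ih with h | h
    · left; rw [← mul_inv_rev, h, inv_one]
    · right; rw [← mul_inv_rev, h, P.inv' hx]

theorem Tw_conj {g u : G} (hg : Commute g x) (hu : u ∈ Tw D x) : cj g u ∈ Tw D x := by
  have hle : Tw D x ≤ (Tw D x).comap (MulAut.conj g).toMonoidHom := by
    refine (Subgroup.closure_le _).2 ?_
    rintro z (rfl | ⟨d, hd, e, he, hex, rfl⟩)
    · show cj g z ∈ Tw D z
      rw [cj_eq_of_commute hg]; exact P.mem_x z
    · show cj g (d * e) ∈ Tw D x
      rw [cj_mul]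
      refine P.mem_twin (P.cj_mem_nb hg hd) ?_ fun h => hex ?_
      · have h := (P.onLine_cj g).2 (he : OnLine D x d e)
        rwa [cj_eq_of_commute hg] at h
      · exact cj_injective g (h.trans (cj_eq_of_commute hg).symm)
  exact hle hu

omit hx in
theorem mem_closure_of_mem_Tw {u : G} (hx : x ∈ D) (hu : u ∈ Tw D x) :
    u ∈ Subgroup.closure (insert x (nb D x)) := by
  refine (Subgroup.closure_le _).2 ?_ hu
  rintro z (rfl | ⟨d, hd, e, he, hex, rfl⟩)
  · exact Subgroup.subset_closure (Or.inl rfl)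
  · exact mul_mem (Subgroup.subset_closure (Or.inr hd))
      (Subgroup.subset_closure (Or.inr (P.mem_nb hx hd he hex)))

/-- A translation of a line through `x`, seen on two of its points. -/
theorem translate_cases {u t y : G} (hu : u ∈ Tw D x) (ht : t ∈ nb D x) (hy : y ∈ Ln D x t)
    (hyx : y ≠ x) (hyt : y ≠ t) :
    (cj u t = t ∧ cj u y = y) ∨ (cj u t = y ∧ cj u y = t) ∨
      (cj u t ≠ t ∧ cj u t ≠ y ∧ cj u y ≠ t ∧ cj u y ≠ y ∧
        cj u (t * y) = t * y * x) := by
  have hyn := P.mem_nb hx ht hy hyx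
  obtain ⟨hl, hlx⟩ := P.cj_Tw_line hx hu ht
  obtain ⟨hl', hlx'⟩ := P.cj_Tw_line hx hu hyn
  rw [P.Ln_eq hx ht hy hyx] at hl'
  have hyy : Commute t y := P.clique hx ht (P.right_mem ht) hy
  have htwo := P.cj_twin hx hu ht hy hyx
  have hnm : ∀ {a : G}, a ∈ Ln D x t → a ≠ x → a * x ∉ D := fun {a} ha hax h => by
    have han := P.mem_nb hx ht ha hax
    rw [← han.2.2.eq] at h
    exact P.x_mul_not_mem hx han h
  have hA : cj u t = t → cj u y = y := fun h => by
    rcases htwo with e | e <;> rw [cj_mul, h] at e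
    · exact mul_left_cancel e
    · rw [mul_assoc t y x] at e
      exact absurd (mul_left_cancel e ▸ hl'.1) (hnm hy hyx)
  have hA' : cj u y = y → cj u t = t := fun h => by
    rcases htwo with e | e <;> rw [cj_mul, h] at e
    · exact mul_right_cancel e
    · rw [mul_assoc t y x, hyn.2.2.symm.eq, ← mul_assoc t x y] at e
      exact absurd (mul_right_cancel e ▸ hl.1) (hnm (P.right_mem ht) ht.2.1)
  have hB : cj u t = y → cj u y = t := fun h => by
    rcases htwo with e | e <;> rw [cj_mul, h, hyy.eq] at e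
    · exact mul_left_cancel e
    · rw [mul_assoc y t x] at e
      exact absurd (mul_left_cancel e ▸ hl'.1) (hnm (P.right_mem ht) ht.2.1)
  have hB' : cj u y = t → cj u t = y := fun h => by
    rcases htwo with e | e <;> rw [cj_mul, h, hyy.eq] at e
    · exact mul_right_cancel e
    · rw [mul_assoc y t x, ht.2.2.symm.eq, ← mul_assoc y x t] at e
      exact absurd (mul_right_cancel e ▸ hl.1) (hnm hy hyx)
  by_cases h1 : cj u t = t
  · exact Or.inl ⟨h1, hA h1⟩
  by_cases h2 : cj u t = y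
  · exact Or.inr (Or.inl ⟨h2, hB h2⟩)
  refine Or.inr (Or.inr ⟨h1, h2, fun h => h2 (hB' h), fun h => h1 (hA' h), ?_⟩)
  rcases htwo with e | e
  · exfalso
    rw [cj_mul] at e
    have e' : x * (t * y * (cj u t * cj u y)) = x := by
      rw [e, P.pair_mul_self ht.1 hyn.1 hyy, mul_one]
    rw [P.five_prod hx ht hy hl hl' hyx hlx hlx' hyt.symm (Ne.symm h1)
      (fun h => h2 (hB' h.symm)) (Ne.symm h2) (fun h => h1 (hA' h.symm))
      (fun h => hyt (cj_injective u h).symm)] at e'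
    exact H44.tt_ne_one P.cl.1 hx e'.symm
  · exact e

variable {f : G} (hf : f ∈ far D x)
include hf

theorem fix_T {u t : G} (hu : u ∈ Tw D x) (h : cj u f = f) (ht : t ∈ T D x f) : cj u t = t := by
  obtain ⟨hl, hlx⟩ := P.cj_Tw_line hx hu ht.1
  have hn := P.mem_nb hx ht.1 hl hlx
  have hT : cj u t ∈ T D x f := mem_T_of_commute hf.2 hn.1 hn.2.2 (by
    have h2 := (commute_cj_iff (g := u)).2 ht.2.2.2
    rwa [h] at h2)
  exact P.T_unique hx hf ht.1 hT ht hl (P.right_mem ht.1)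

theorem fix_nb {u : G} (hu : u ∈ Tw D x) (hT : ∀ t ∈ T D x f, cj u t = t) {y : G}
    (hy : y ∈ nb D x) : cj u y = y := by
  obtain ⟨t, ht, hyt, -⟩ := P.exists_T hx hf hy
  by_cases e : y = t
  · rw [e]; exact hT t ht
  rcases P.translate_cases hx hu ht.1 hyt hy.2.1 e with h | h | h
  · exact h.2
  · exact absurd (h.1.symm.trans (hT t ht)) e
  · exact absurd (hT t ht) h.1

/-- The members commuting with all of `T x f`. -/
theorem common_perp {z : G} (hz : z ∈ D) (hzT : ∀ t ∈ T D x f, Commute z t) :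
    z = x ∨ z = f ∨ z = cj x f := by
  classical
  by_contra hne
  push Not at hne
  obtain ⟨hzx, hzf, hzh⟩ := hne
  set S : Set G := {w : G | w ∈ D ∧ ∀ t ∈ T D x f, Commute w t} with hS
  set m := (T D x f).ncard with hm
  have hxS : x ∈ S := ⟨hx, fun t ht => ht.1.2.2⟩
  have hfS : f ∈ S := ⟨hf.1, fun t ht => ht.2.2.2⟩
  have hcl : ∀ u ∈ S, ∀ v ∈ S, cj u v ∈ S := fun u hu v hv => ⟨P.mem_cj u hv.1, fun t ht =>
    ((hu.2 t ht).symm.mul_right (hv.2 t ht).symm |>.mul_right (hu.2 t ht).symm.inv_right).symm⟩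
  have hnx : ∀ w ∈ S, Commute x w → w = x := fun w hw h => by_contra fun e =>
    P.T_nondeg hx hf ⟨hw.1, e, h⟩ hw.2
  have hncS : ∀ u ∈ S, ∀ v ∈ S, Commute u v → u = v := by
    intro u hu v hv h
    by_contra hne
    have hvn : v ∈ nb D u := ⟨hv.1, Ne.symm hne, h⟩
    obtain ⟨r, hr, hxr⟩ := P.exists_trace hu.1 hvn hx
    have hrS : r ∈ S := ⟨hr.1, fun t ht => hr.2 t ⟨ht.1.1, (hu.2 t ht).symm, (hv.2 t ht).symm⟩⟩
    obtain rfl := hnx r hrS hxr
    exact hne ((hnx u hu (hr.2 u (P.left_mem_B hu.1 hvn))).trans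
      (hnx v hv (hr.2 v (P.right_mem_B hvn))).symm)
  obtain ⟨j, hj⟩ := three_pow_of_closed P.toCls (fun w hw => hw.1) hcl hncS ⟨x, hxS⟩
  have hh := P.not_commute_cj hx hf.1 hf.2
  have h4 : 4 ≤ S.ncard := by
    have hsub : ({z, x, f, cj x f} : Set G) ⊆ S := by
      rintro w (rfl | rfl | rfl | rfl)
      exacts [⟨hz, hzT⟩, hxS, hfS, hcl x hxS f hfS]
    refine le_trans ?_ (Set.ncard_le_ncard hsub (Set.toFinite _))
    rw [Set.ncard_insert_of_notMem (by simp [hzx, hzf, hzh]) (Set.toFinite _),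
      Set.ncard_eq_three.2 ⟨x, f, cj x f, ne_of_not_commute hf.2,
        fun e => hh.2 (by rw [← e]), fun e => hh.1 (by rw [← e]), rfl⟩]
  have h9 : 9 ≤ S.ncard := by
    rcases j with _ | _ | j
    · rw [hj] at h4; norm_num at h4
    · rw [hj] at h4; norm_num at h4
    · rw [hj, pow_succ, pow_succ]; have := Nat.one_le_pow j 3 (by norm_num); omega
  have hline : ∀ p ∈ D, ∀ q ∈ nb D p, (Ln D p q).ncard = 4 + 1 := fun p hp q hq => P.five p hp q hq
  obtain ⟨a, ha⟩ := P.nb_nonempty hx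
  have hmpos : 1 ≤ m := by
    obtain ⟨t, ht, -, -⟩ := P.exists_T hx hf ha
    exact (Set.ncard_pos (Set.toFinite _)).2 ⟨t, ht⟩
  -- the points off a line are few
  have hN : ∀ {w}, w ∈ D → (nb D w).ncard = m * 4 := fun {w} hw => by
    rw [P.ncard_nb_eq hw hx, P.ncard_nb_mul hline hx hf]
  have hup : D.ncard ≤ 5 + 5 * (m * 4 - 4) := by
    have hsub : Ln D x a ⊆ D := fun d hd => hd.1
    rw [← Set.ncard_sdiff_add_ncard_of_subset hsub (Set.toFinite _), P.five x hx a ha, add_comm]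
    refine Nat.add_le_add_left ?_ 5
    rw [Set.ncard_eq_toFinset_card (D \ Ln D x a)]
    refine (Finset.card_le_card (t := (Set.toFinite (Ln D x a)).toFinset.biUnion
      fun r => (Set.toFinite (nb D r \ Ln D x a)).toFinset) fun g hg => ?_).trans ?_
    · simp only [Set.Finite.mem_toFinset, Finset.mem_biUnion, Set.mem_sdiff] at hg ⊢
      obtain ⟨r, hr, hgr⟩ := P.exists_trace hx ha hg.1
      exact ⟨r, hr, ⟨hg.1, fun e => hg.2 (e ▸ hr), hgr.symm⟩, hg.2⟩
    refine (Finset.card_biUnion_le).trans ?_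
    refine (Finset.sum_le_card_nsmul _ _ (m * 4 - 4) fun r hr => ?_).trans ?_
    · rw [Set.Finite.mem_toFinset] at hr
      rw [← Set.ncard_eq_toFinset_card]
      have hsub' : Ln D x a \ {r} ⊆ nb D r := fun d hd =>
        ⟨hd.1.1, hd.2, P.clique hx ha hr hd.1⟩
      refine (Set.ncard_le_ncard (t := nb D r \ (Ln D x a \ {r}))
        (fun d hd => ⟨hd.1, fun h => hd.2 h.1⟩) (Set.toFinite _)).trans ?_
      rw [Set.ncard_sdiff hsub' (Set.toFinite _), hN hr.1, Set.ncard_sdiff_singleton_of_mem hr,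
        P.five x hx a ha]
    · rw [smul_eq_mul, ← Set.ncard_eq_toFinset_card, P.five x hx a ha]
  -- the neighbourhoods of the members of `S` away from `T x f` are disjoint
  have hlow : S.ncard * (m * 4 - m) ≤ D.ncard := by
    have hsub : ∀ w ∈ S, T D x f ⊆ nb D w := fun w hw t ht => ⟨ht.1.1, fun e => by
      subst e
      exact ht.1.2.1 (hnx t hw ht.1.2.2), hw.2 t ht⟩
    have hU : ((Set.toFinite S).toFinset.biUnion
        fun w => (Set.toFinite (nb D w \ T D x f)).toFinset).card ≤ D.ncard := by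
      rw [Set.ncard_eq_toFinset_card D]
      refine Finset.card_le_card fun w hw => ?_
      rw [Finset.mem_biUnion] at hw
      obtain ⟨t, -, hw⟩ := hw
      rw [Set.Finite.mem_toFinset] at hw ⊢
      exact hw.1.1
    rw [Finset.card_biUnion ?_, Finset.sum_const_nat (m := m * 4 - m) fun w hw => ?_,
      ← Set.ncard_eq_toFinset_card] at hU
    · exact hU
    · rw [Set.Finite.mem_toFinset] at hw
      rw [← Set.ncard_eq_toFinset_card, Set.ncard_sdiff (hsub w hw) (Set.toFinite _), hN hw.1]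
    · intro w hw w' hw' hne
      rw [Finset.mem_coe, Set.Finite.mem_toFinset] at hw hw'
      rw [Function.onFun, Finset.disjoint_left]
      intro d hd hd'
      rw [Set.Finite.mem_toFinset] at hd hd'
      have hnc : ¬ Commute w w' := fun h => hne (hncS w hw w' hw' h)
      have heq : T D x f = T D w w' := Set.eq_of_subset_of_ncard_le
        (fun t ht => mem_T_of_commute hnc ht.1.1 (hw.2 t ht) (hw'.2 t ht))
        (P.ncard_T_eq hw.1 ⟨hw'.1, hnc⟩ hx hf).le (Set.toFinite _)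
      exact hd.2 (heq ▸ mem_T_of_commute hnc hd.1.1 hd.1.2.2 hd'.1.2.2)
  have h9' := Nat.mul_le_mul_right (m * 4 - m) h9
  omega

/-- The points collinear with `f` that do not commute with `x`. -/
theorem exists_near_aux {g : G} (hg : g ∈ nb D f) (hgx : ¬ Commute x g) :
    ∃ c ∈ nb D x, cj (c * x) f = g := by
  obtain ⟨t, ht, hxt⟩ := P.exists_trace hf.1 hg hx
  have htf : t ≠ f := fun e => hf.2 (e ▸ hxt)
  have htn := P.mem_nb hf.1 hg ht htf
  have hxn : x ∈ nb D t := ⟨hx, fun e => hf.2 (by rw [e]; exact htn.2.2.symm), hxt.symm⟩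
  have hfn : f ∈ nb D t := nb_symm hf.1 htn
  have hgL : g ∈ Ln D t f := by
    rw [P.Ln_comm, P.Ln_eq hf.1 hg ht htf]; exact P.right_mem hg
  have hgt : g ≠ t := fun e => hgx (e ▸ hxt)
  obtain ⟨c, hc, hct, hce⟩ :=
    P.exists_translate htn.1 hfn hxn hgL hgt fun h => hf.2 h.symm
  refine ⟨c, ⟨hc.1, fun e => ?_, (P.mem_B htn.1 hxn hc).2.2.symm⟩, hce⟩
  rw [e, P.sq hx, cj_one] at hce
  exact hg.2.1 hce.symm

omit hf in
theorem exists_bridge_aux {g : G} (hf : f ∈ far D x) (hg : g ∈ far D x) (hfg : ¬ Commute f g)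
    (hS : ¬ ∀ t ∈ T D x f, Commute g t) : ∃ w ∈ T D f g, ¬ Commute x w := by
  by_contra h
  push Not at h
  refine hS fun t ht => ?_
  have hsub : T D f g ⊆ T D x f := fun w hw =>
    mem_T_of_commute hf.2 hw.1.1 (h w hw) hw.1.2.2
  have heq : T D f g = T D x f := Set.eq_of_subset_of_ncard_le hsub
    (P.ncard_T_eq hx hf hf.1 ⟨hg.1, hfg⟩).le (Set.toFinite _)
  exact (heq.symm ▸ ht : t ∈ T D f g).2.2.2

theorem free {u : G} (hu : u ∈ Tw D x) (h : cj u f = f) : u = 1 := by
  have hnb : ∀ y ∈ nb D x, cj u y = y := fun y hy => P.fix_nb hx hf hu (fun t ht => P.fix_T hx hf hu h ht) hy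
  refine P.eq_one_of_fix fun w hw => ?_
  by_cases hxw : Commute x w
  · by_cases e : w = x
    · rw [e]; exact cj_eq_of_commute (P.commute_x hx hu)
    · exact hnb w ⟨hw, e, hxw⟩
  -- the trace of `w` on the lines through `x` is fixed, so `w` is
  have hcomm : Commute u (cj x f) := (((P.commute_x hx hu)).mul_right (commute_of_cj_eq h)).mul_right
    (P.commute_x hx hu).inv_right
  have hfar : w ∈ far D x := ⟨hw, hxw⟩
  by_cases hfw : Commute f w
  · by_cases e : w = f
    · rw [e]; exact h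
    obtain ⟨c, hc, hce⟩ := P.exists_near_aux hx hf ⟨hw, e, hfw⟩ hxw
    rw [← hce, cj_cj, ((commute_of_cj_eq (hnb c hc)).mul_right (P.commute_x hx hu)).eq, ← cj_cj, h]
  by_cases hwS : ∀ t ∈ T D x f, Commute w t
  · rcases P.common_perp hx hf hw hwS with e | e | e
    · exact absurd (e ▸ Commute.refl x) hxw
    · rw [e]; exact h
    · rw [e]; exact cj_eq_of_commute hcomm
  obtain ⟨g, hg, hgx⟩ := P.exists_bridge_aux hx hf hfar hfw hwS
  obtain ⟨c, hc, hce⟩ := P.exists_near_aux hx hf hg.1 hgx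
  have hug : cj u g = g := by
    rw [← hce, cj_cj, ((commute_of_cj_eq (hnb c hc)).mul_right (P.commute_x hx hu)).eq, ← cj_cj, h]
  obtain ⟨c', hc', hce'⟩ := P.exists_near_aux hx ⟨hg.1.1, hgx⟩ (nb_symm hw hg.2) hxw
  rw [← hce', cj_cj, ((commute_of_cj_eq (hnb c' hc')).mul_right (P.commute_x hx hu)).eq, ← cj_cj, hug]

end Five

end Cfsg.Agent.H80.TTPolar
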